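import Cfsg.Agent.Lib.Blocks.FreeInertial.Signs
import Cfsg.Agent.Lib.Star.Free

/-!
# The columns of a block with free inertial quotient

* `dec_ortho`: the orthogonality of the generalised decomposition numbers on `P`;
* `exists_dec_ne_zero`: no row vanishes;
* `card_eq_rank_add`: the number of characters against the rank.
-/

set_option autoImplicit false
set_option maxHeartbeats 1000000
set_option synthInstance.maxHeartbeats 200000
set_option linter.unusedSectionVars false

open scoped ComplexConjugate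

namespace Cfsg.Agent.FreeInertial

open Cfsg Cfsg.Agent.Blocks Cfsg.Agent.BrauerPairs Cfsg.Agent.SecondMain

variable {G : Type*} [Group G] [Finite G] {p : ℕ} [Fact p.Prime] {M : Ideal AlgInt}
  {B : Set (IrrCharacter G)} {P : Subgroup G}
  {c : Set (IrrCharacter (Subgroup.centralizer (P : Set G)))}

open scoped Classical in
/-- The scalar products of the shifts of the characters of `B` with a member of a block inducing
`B` and an arbitrary character. -/
theorem sum_shift_inner_mul' [Fintype G] {H : Subgroup G} [Fintype H] (hM : IsPModular p M) {x : G}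
    (hx : ∃ k, orderOf x = p ^ k) (hH : ∀ g, g ∈ H ↔ Commute x g) (hB : IsPBlock M B)
    {b : Set (IrrCharacter H)} (hb : IsInducedBlock M H b B) {η η' : IrrCharacter H}
    (hη' : η' ∈ b) :
    ∑ᶠ χ ∈ B, regInner p (fun c : H => (χ : G → ℂ) (x * (c : G))) (η : H → ℂ) *
        conj (regInner p (fun c : H => (χ : G → ℂ) (x * (c : G))) (η' : H → ℂ))
      = regInner p (η' : H → ℂ) (η : H → ℂ) := by
  have := Fintype.ofFinite (IrrCharacter G)
  have := Fintype.ofFinite (IrrCharacter H)
  let F : Finset H := Finset.univ.filter fun c => ¬ p ∣ orderOf c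
  let S : Set (Set (IrrCharacter H)) := inducedSet M H B
  have h1 : ∑ᶠ χ ∈ B, regInner p (fun c : H => (χ : G → ℂ) (x * (c : G))) (η : H → ℂ) *
        conj (regInner p (fun c : H => (χ : G → ℂ) (x * (c : G))) (η' : H → ℂ))
      = (Nat.card H : ℂ)⁻¹ * (Nat.card H : ℂ)⁻¹ * ∑ m ∈ F, ∑ n ∈ F,
          conj ((η : H → ℂ) m) * (η' : H → ℂ) n * colSum B (x * (m : G)) (x * (n : G)) := by
    simp only [regInner_eq_sum, colSum, finsum_mem_eq_toFinset_sum, map_mul, map_sum, map_inv₀,
      Complex.conj_natCast, Complex.conj_conj, Finset.mul_sum, Finset.sum_mul]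
    rw [Finset.sum_comm]
    conv_lhs => rw [Finset.sum_congr rfl fun n _ => Finset.sum_comm]
    rw [Finset.sum_comm]
    exact Finset.sum_congr rfl fun m _ => Finset.sum_congr rfl fun n _ =>
      Finset.sum_congr rfl fun χ _ => by ring
  rw [h1]
  have h2 : ∀ m ∈ F, ∀ n ∈ F, colSum B (x * (m : G)) (x * (n : G))
      = ∑ᶠ ζ ∈ ⋃₀ S, (ζ : H → ℂ) m * conj ((ζ : H → ℂ) n) := fun m hm n hn => by
    rw [colSum_eq_sum hM hB hx hH (Finset.mem_filter.mp hm).2 (Finset.mem_filter.mp hn).2]
    exact finsum_blocks_eq hM (fun c hc => hc.1) _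
  rw [Finset.sum_congr rfl fun m hm => Finset.sum_congr rfl fun n hn => by rw [h2 m hm n hn]]
  have h3 : (Nat.card H : ℂ)⁻¹ * (Nat.card H : ℂ)⁻¹ * ∑ m ∈ F, ∑ n ∈ F,
          conj ((η : H → ℂ) m) * (η' : H → ℂ) n *
            ∑ᶠ ζ ∈ ⋃₀ S, (ζ : H → ℂ) m * conj ((ζ : H → ℂ) n)
      = ∑ ζ ∈ (⋃₀ S).toFinset, regInner p (η' : H → ℂ) (ζ : H → ℂ) *
          regInner p (ζ : H → ℂ) (η : H → ℂ) := by
    simp only [regInner_eq_sum, finsum_mem_eq_toFinset_sum, Finset.mul_sum, Finset.sum_mul]
    rw [Finset.sum_comm]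
    conv_lhs => rw [Finset.sum_congr rfl fun n _ => Finset.sum_comm]
    rw [Finset.sum_comm]
    refine Finset.sum_congr rfl fun ζ _ => ?_
    rw [Finset.sum_comm]
    exact Finset.sum_congr rfl fun m _ => Finset.sum_congr rfl fun n _ => by ring
  rw [h3, ← regInner_idem hM hb.1 hη' (η : H → ℂ), finsum_mem_eq_toFinset_sum]
  refine (Finset.sum_subset ?_ fun ζ _ hζ => ?_).symm
  · intro ζ hζ
    exact Set.mem_toFinset.mpr ⟨b, hb, Set.mem_toFinset.mp hζ⟩
  · rw [regInner_eq_zero hM hb.1 hη' fun h => hζ (Set.mem_toFinset.mpr h), zero_mul]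

theorem exists_order_pow' (hmax : IsMaximalBrauerPair p M B P c) {v : G} (hv : v ∈ P) :
    ∃ k, orderOf v = p ^ k := by
  obtain ⟨k, hk⟩ := IsPGroup.iff_orderOf.1 hmax.1.1.1 ⟨v, hv⟩
  exact ⟨k, by rw [← hk, ← Subgroup.orderOf_coe]⟩

theorem induced_blk (hM : IsPModular p M) (hmax : IsMaximalBrauerPair p M B P c) {v : G}
    (hv : v ∈ P) :
    IsInducedBlock M (Subgroup.centralizer (Subgroup.zpowers v : Set G))
      (blk p M P c (Subgroup.zpowers v)) B :=
  induced_of_brauerPair hM (exists_order_pow' hmax hv)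
    ((isBrauerPairOf_iff_of_le hM hmax.1.2.1 (blk_spec hM hmax (Subgroup.zpowers_le.2 hv)).2).1 hmax.1)

open scoped Classical in
/-- Orthogonality of the decomposition numbers. -/
theorem dec_ortho [Fintype P] (hM : IsPModular p M) (hmax : IsMaximalBrauerPair p M B P c)
    (hab : ∀ x ∈ P, ∀ y ∈ P, x * y = y * x) (hfree : Free M P c) (v w : P) (hv : v ≠ 1)
    (hw : w ≠ 1) :
    ∑ᶠ χ ∈ B, dec p M P c (Subgroup.zpowers (v : G)) (χ : G → ℂ) v *
        conj (dec p M P c (Subgroup.zpowers (w : G)) (χ : G → ℂ) w) =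
      if w ∈ Watanabe.orb M P c v then (Nat.card P : ℂ) else 0 := by
  have := Fintype.ofFinite G
  have := Fintype.ofFinite (IrrCharacter G)
  have hB : IsPBlock M B := hmax.1.2.1
  set Qv := Subgroup.zpowers (v : G) with hQv
  set Qw := Subgroup.zpowers (w : G) with hQw
  have hvP : Qv ≤ P := Subgroup.zpowers_le.2 v.2
  have hwP : Qw ≤ P := Subgroup.zpowers_le.2 w.2
  have hv1 : Qv ≠ ⊥ := fun h => hv (Subtype.ext (Subgroup.zpowers_eq_bot.1 h))
  have hw1 : Qw ≠ ⊥ := fun h => hw (Subtype.ext (Subgroup.zpowers_eq_bot.1 h))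
  have := Fintype.ofFinite (Subgroup.centralizer (Qv : Set G))
  have := Fintype.ofFinite (Subgroup.centralizer (Qw : Set G))
  obtain ⟨θ, hθ, hth⟩ := exists_th hM hmax hvP
  obtain ⟨θw, hθw, hthw⟩ := exists_th hM hmax hwP
  have hcH : ∀ g, g ∈ Subgroup.centralizer (Qv : Set G) ↔ Commute (v : G) g :=
    fun g => SecondMain.mem_centralizer_zpowers_iff
  split_ifs with horb
  · obtain ⟨t, ht, htw⟩ := Watanabe.mem_orb.1 horb
    have hD : ∀ χ : IrrCharacter G, dec p M P c Qw (χ : G → ℂ) w = dec p M P c Qv (χ : G → ℂ) v := by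
      intro χ
      rw [hQw, htw, ← conjSub_zpowers']
      exact dec_conj hM hmax hab hfree ht hvP hv1 (fun n => irr_class χ n t) _
    have h := SecondMain.sum_shift_inner_mul (η := θ) (η' := θ) hM (exists_order_pow' hmax v.2) hcH hB
      (induced_blk hM hmax v.2) hθ hθ
    have hn := regInner_th hM hmax hab hfree hvP hv1
    simp only [hth, ext_coe] at hn
    rw [hn] at h
    calc _ = ∑ᶠ χ ∈ B, (Nat.card P : ℂ) * (Nat.card P : ℂ) *
          (regInner p (fun m : Subgroup.centralizer (Qv : Set G) => (χ : G → ℂ) ((v : G) * m))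
              (θ : Subgroup.centralizer (Qv : Set G) → ℂ) *
            conj (regInner p (fun m : Subgroup.centralizer (Qv : Set G) => (χ : G → ℂ) ((v : G) * m))
              (θ : Subgroup.centralizer (Qv : Set G) → ℂ))) := by
            refine finsum_mem_congr rfl fun χ _ => ?_
            rw [hD, dec_def]
            simp only [hth, ext_coe, map_mul, Complex.conj_natCast]
            ring
      _ = (Nat.card P : ℂ) * (Nat.card P : ℂ) * (Nat.card P : ℂ)⁻¹ := by
            rw [← h, finsum_mem_eq_toFinset_sum, finsum_mem_eq_toFinset_sum, Finset.mul_sum]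
      _ = _ := by field_simp
  · by_cases hconj : IsConj (v : G) (w : G)
    · obtain ⟨g, hg⟩ := isConj_iff.1 hconj
      -- pull the block at `w` back to the centraliser of `v`
      have hK : ∀ x, x ∈ Subgroup.centralizer (Qw : Set G) ↔
          g⁻¹ * x * g⁻¹⁻¹ ∈ Subgroup.centralizer (Qv : Set G) := by
        intro x
        rw [hcH, SecondMain.mem_centralizer_zpowers_iff, ← hg, inv_inv]
        constructor
        · intro h
          show (v : G) * (g⁻¹ * x * g) = g⁻¹ * x * g * v
          calc (v : G) * (g⁻¹ * x * g) = g⁻¹ * ((g * v * g⁻¹) * x) * g := by group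
            _ = g⁻¹ * (x * (g * v * g⁻¹)) * g := by rw [h.eq]
            _ = _ := by group
        · intro h
          show g * v * g⁻¹ * x = x * (g * v * g⁻¹)
          calc g * v * g⁻¹ * x = g * ((v : G) * (g⁻¹ * x * g)) * g⁻¹ := by group
            _ = g * (g⁻¹ * x * g * v) * g⁻¹ := by rw [h.eq]
            _ = _ := by group
      obtain ⟨hbw, hblew⟩ := blk_spec hM hmax hwP
      set b'' := conjImg _ _ g⁻¹ hK (blk p M P c Qw) with hb''
      have hb''B : IsPBlock M b'' := isPBlock_conjImg _ hbw
      have hcb : cj g⁻¹ (cb M Qw (blk p M P c Qw)) = cb M Qv b'' := cj_bIdem hM hK _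
      have hsub : conjSub g⁻¹ Qw = Qv := by
        rw [hQw, conjSub_zpowers', ← hg]
        congr 1
        group
      have hpair : IsBrauerPairOf p M B Qv b'' := by
        obtain ⟨-, -, he⟩ := (isBrauerPairOf_iff hM).1
          ((isBrauerPairOf_iff_of_le hM hB hblew).1 hmax.1)
        refine (isBrauerPairOf_iff hM).2 ⟨⟨hmax.1.1.1.to_le hvP, hb''B⟩, hB, ?_⟩
        rw [← hcb]
        conv_rhs => rw [← he]
        rw [map_mul, cj_br, hsub, fixed_blk B g⁻¹ (Subgroup.mem_top _)]
      have hind := induced_of_brauerPair hM (exists_order_pow' hmax v.2) hpair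
      set φ := (conjEquiv _ _ g⁻¹ hK).symm with hφ
      set η' := pullIrr φ θw with hη'
      have hη'b : η' ∈ b'' := ⟨θw, hθw, rfl⟩
      have hD : ∀ χ : IrrCharacter G,
          regInner p (fun m : Subgroup.centralizer (Qw : Set G) => (χ : G → ℂ) ((w : G) * m))
            (θw : Subgroup.centralizer (Qw : Set G) → ℂ) =
          regInner p (fun m : Subgroup.centralizer (Qv : Set G) => (χ : G → ℂ) ((v : G) * m))
            (η' : Subgroup.centralizer (Qv : Set G) → ℂ) := by
        intro χ
        rw [regInner_eq_sum, regInner_eq_sum, Nat.card_congr φ.toEquiv.symm]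
        congr 1
        symm
        refine Finset.sum_equiv φ.toEquiv (fun m => ?_) fun m _ => ?_
        · rw [Finset.mem_filter, Finset.mem_filter,
            show orderOf (φ.toEquiv m) = orderOf m from φ.orderOf_eq m]
          simp only [Finset.mem_univ, true_and]
        · have hm : ((φ.toEquiv m : Subgroup.centralizer (Qw : Set G)) : G) = g⁻¹⁻¹ * m * g⁻¹ := rfl
          congr 1
          rw [hm, inv_inv, ← hg, ← irr_class χ ((v : G) * m) g]
          congr 1
          group
      have hne : b'' ≠ blk p M P c Qv := by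
        intro heq
        obtain ⟨hbv, hblev⟩ := blk_spec hM hmax hvP
        have hz : conjIdx g (⟨Qv, blk p M P c Qv⟩ : BrauerPairIdx G) = ⟨Qw, blk p M P c Qw⟩ := by
          refine idx_ext hM ?_ (isPBlock_conjBlock _ _ hbv) hbw ?_
          · show conjSub g Qv = Qw
            rw [hQv, conjSub_zpowers', hg]
          · show cb M (conjSub g Qv) (conjBlock Qv g (blk p M P c Qv)) = cb M Qw (blk p M P c Qw)
            rw [← cj_cb hM, ← heq, ← hcb, cj_cj_inv]
        obtain ⟨k, hk, hks⟩ := KleinDefect.fusion_of_abelian hM hmax hab hblev hbw hblew hz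
        refine horb (Watanabe.mem_orb.2 ⟨k * g, hks, ?_⟩)
        rw [show k * g * (v : G) * (k * g)⁻¹ = k * (g * v * g⁻¹) * k⁻¹ by group, hg]
        rw [← (SecondMain.mem_centralizer_zpowers_iff.1 hk).eq, mul_inv_cancel_right]
      have h := sum_shift_inner_mul' (η := θ) hM (exists_order_pow' hmax v.2) hcH hB hind hη'b
      rw [regInner_eq_zero hM hb''B hη'b fun h' => hne
        (isPBlock_eq_of_mem hM hb''B (blk_spec hM hmax hvP).1 h' hθ)] at h
      calc _ = ∑ᶠ χ ∈ B, (Nat.card P : ℂ) * (Nat.card P : ℂ) *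
            (regInner p (fun m : Subgroup.centralizer (Qv : Set G) => (χ : G → ℂ) ((v : G) * m))
                (θ : Subgroup.centralizer (Qv : Set G) → ℂ) *
              conj (regInner p (fun m : Subgroup.centralizer (Qv : Set G) => (χ : G → ℂ) ((v : G) * m))
                (η' : Subgroup.centralizer (Qv : Set G) → ℂ))) := by
              refine finsum_mem_congr rfl fun χ _ => ?_
              rw [dec_def, dec_def]
              simp only [hth, hthw, ext_coe, map_mul, Complex.conj_natCast, hD]
              ring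
        _ = 0 := by
              rw [finsum_mem_eq_toFinset_sum] at h ⊢
              rw [← Finset.mul_sum, h, mul_zero]
    · rw [finsum_mem_eq_toFinset_sum]
      simp only [dec_def, regInner_eq_sum, map_mul, map_sum, map_inv₀, Complex.conj_natCast,
        Complex.conj_conj, Finset.mul_sum, Finset.sum_mul]
      rw [Finset.sum_comm]
      refine Finset.sum_eq_zero fun n hn => ?_
      rw [Finset.sum_comm]
      refine Finset.sum_eq_zero fun m hm => ?_
      have hnC : Commute (w : G) (n : G) := SecondMain.mem_centralizer_zpowers_iff.1 n.2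
      have h0 := colSum_eq_zero hM hB (exists_order_pow' hmax v.2) (exists_order_pow' hmax w.2)
        (y := (m : G)) (y' := (n : G)) (by rw [Subgroup.orderOf_coe]; exact (Finset.mem_filter.1 hm).2)
        (by rw [Subgroup.orderOf_coe]; exact (Finset.mem_filter.1 hn).2) ((hcH _).1 m.2) hnC hconj
      rw [colSum, finsum_mem_eq_toFinset_sum] at h0
      refine Eq.trans ?_ (mul_eq_zero_of_right
        ((Nat.card P : ℂ) * (Nat.card (Subgroup.centralizer (Qv : Set G)) : ℂ)⁻¹ *
          conj (th p M P c Qv m) * ((Nat.card P : ℂ) *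
            (Nat.card (Subgroup.centralizer (Qw : Set G)) : ℂ)⁻¹ * th p M P c Qw n)) h0)
      rw [Finset.mul_sum]
      refine Finset.sum_congr rfl fun χ _ => ?_
      ring

theorem blockDefect_blk (hM : IsPModular p M) (hmax : IsMaximalBrauerPair p M B P c)
    (hab : ∀ x ∈ P, ∀ y ∈ P, x * y = y * x) {Q : Subgroup G} (hQP : Q ≤ P) :
    blockDefect p (blk p M P c Q) = blockDefect p B := by
  obtain ⟨P', c', hmax', hmap, -, -⟩ := exists_local hM hmax hab hQP
  have h1 := card_defectGroup hM (blk_spec hM hmax hQP).1 (maximal_isDefectGroup hM hmax')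
  have h2 := card_defectGroup hM hmax.1.2.1 (maximal_isDefectGroup hM hmax)
  have h3 : Nat.card P' = Nat.card P := by
    rw [← hmap]
    exact Nat.card_congr (Subgroup.equivMapOfInjective P' _ (Subgroup.subtype_injective _)).toEquiv
  exact Nat.pow_right_injective (Fact.out : p.Prime).two_le
    (show p ^ blockDefect p (blk p M P c Q) = p ^ blockDefect p B by rw [← h1, ← h2, h3])

/-- No row of decomposition numbers vanishes. -/
theorem dec_ne_zero (hM : IsPModular p M) (hmax : IsMaximalBrauerPair p M B P c)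
    (hab : ∀ x ∈ P, ∀ y ∈ P, x * y = y * x) (hfree : Free M P c) {v : G} (hv : v ∈ P) (hv1 : v ≠ 1)
    {χ : IrrCharacter G} (hχ : χ ∈ B) :
    dec p M P c (Subgroup.zpowers v) (χ : G → ℂ) v ≠ 0 := by
  have := Fintype.ofFinite G
  have hQP : Subgroup.zpowers v ≤ P := Subgroup.zpowers_le.2 hv
  have hQ1 : Subgroup.zpowers v ≠ ⊥ := fun h => hv1 (Subgroup.zpowers_eq_bot.1 h)
  obtain ⟨hb, hle⟩ := blk_spec hM hmax hQP
  obtain ⟨s, hs, hne⟩ := Star.exists_piece_ne_zero_of_defect hM (exists_order_pow' hmax hv)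
    (a := ⟨Subgroup.zpowers v, blk p M P c (Subgroup.zpowers v)⟩) (Star.mem_pairsAt.2 ⟨rfl, hb⟩)
    ((isBrauerPairOf_iff_of_le hM hmax.1.2.1 hle).1 hmax.1) (blockDefect_blk hM hmax hab hQP) hχ
  obtain ⟨hc, hreg⟩ := Star.mem_regSet.1 hs
  intro h0
  apply hne
  rw [Star.piece_def, piece_local hM hmax hab hfree hQP hQ1 (fun h _ n => irr_class χ n h)
    (fun h hh => SecondMain.mem_centralizer_zpowers_iff.1 hh)
    (SecondMain.mem_centralizer_zpowers_iff.2 hc) hreg, h0, zero_mul]

/-- The orbits on the non-trivial elements have the size of the inertial quotient. -/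
theorem card_orb (hfree : Free M P c) {v : P} (hv : v ≠ 1) :
    (Watanabe.orb M P c v).card = (Subgroup.centralizer (P : Set G)).relIndex (pairStab M P c) := by
  classical
  set K := (Subgroup.centralizer (P : Set G)).subgroupOf (pairStab M P c) with hK
  let f : pairStab M P c ⧸ K → P := fun q => conjP q.out.2 v
  have hinj : Function.Injective f := by
    intro q q' h
    have h' : ((q.out : pairStab M P c) : G) * v * ((q.out : pairStab M P c) : G)⁻¹ =
        ((q'.out : pairStab M P c) : G) * v * ((q'.out : pairStab M P c) : G)⁻¹ :=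
      congrArg Subtype.val h
    rw [← QuotientGroup.out_eq' q, ← QuotientGroup.out_eq' q', QuotientGroup.eq]
    show ((q.out⁻¹ * q'.out : pairStab M P c) : G) ∈ Subgroup.centralizer (P : Set G)
    refine hfree _ (q.out⁻¹ * q'.out).2 v v.2 (fun h1 => hv (Subtype.ext h1)) ?_
    simp only [Subgroup.coe_mul, Subgroup.coe_inv]
    calc _ = ((q.out : pairStab M P c) : G)⁻¹ * (((q'.out : pairStab M P c) : G) * v *
          ((q'.out : pairStab M P c) : G)⁻¹) * ((q.out : pairStab M P c) : G) := by group
      _ = _ := by rw [← h']; group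
  have hrange : Set.range f = (Watanabe.orb M P c v : Set P) := by
    ext w
    rw [Finset.mem_coe, Watanabe.mem_orb]
    constructor
    · rintro ⟨q, rfl⟩
      exact ⟨_, q.out.2, rfl⟩
    · rintro ⟨t, ht, htw⟩
      obtain ⟨k, hk⟩ := QuotientGroup.mk_out_eq_mul K (⟨t, ht⟩ : pairStab M P c)
      refine ⟨QuotientGroup.mk ⟨t, ht⟩, Subtype.ext ?_⟩
      have hkv : ((k : pairStab M P c) : G) * v = v * ((k : pairStab M P c) : G) :=
        (Subgroup.mem_centralizer_iff.1 k.2 v v.2).symm
      simp only [f, coe_conjP, hk, Subgroup.coe_mul, htw, mul_inv_rev]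
      calc t * ((k : pairStab M P c) : G) * v * (((k : pairStab M P c) : G)⁻¹ * t⁻¹) =
            t * (((k : pairStab M P c) : G) * v) * ((k : pairStab M P c) : G)⁻¹ * t⁻¹ := by group
        _ = _ := by rw [hkv]; group
  have h := Nat.card_range_of_injective hinj
  rw [hrange, Nat.card_coe_set_eq, Set.ncard_coe_finset] at h
  rw [h]
  rfl

/-- The number of characters against the rank. -/
theorem card_eq_rank_add (hM : IsPModular p M) (hmax : IsMaximalBrauerPair p M B P c)
    (hab : ∀ x ∈ P, ∀ y ∈ P, x * y = y * x) (hfree : Free M P c) :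
    0 < (Subgroup.centralizer (P : Set G)).relIndex (pairStab M P c) ∧
    Nat.card B * (Subgroup.centralizer (P : Set G)).relIndex (pairStab M P c) =
      blockRank p B * (Subgroup.centralizer (P : Set G)).relIndex (pairStab M P c) +
        (Nat.card P - 1) := by
  classical
  have := Fintype.ofFinite P
  set e := (Subgroup.centralizer (P : Set G)).relIndex (pairStab M P c) with he
  have he0 : 0 < e := Nat.pos_of_ne_zero Subgroup.index_ne_zero_of_finite
  refine ⟨he0, ?_⟩
  have h := Watanabe.card_eq_sum hM hmax hab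
  rw [← Finset.add_sum_erase Finset.univ _ (Finset.mem_univ (1 : P))] at h
  rw [Finset.sum_congr rfl fun v hv => show _ = (e : ℂ)⁻¹ by
    rw [lrank_eq_one hM hmax hab hfree (Subgroup.zpowers_le.2 v.2) (fun h0 => Finset.ne_of_mem_erase hv
      (Subtype.ext (Subgroup.zpowers_eq_bot.1 h0))), Nat.cast_one, mul_one, Watanabe.wt,
      card_orb hfree (Finset.ne_of_mem_erase hv)], Finset.sum_const, Finset.card_erase_of_mem
      (Finset.mem_univ _), Finset.card_univ, ← Nat.card_eq_fintype_card, nsmul_eq_mul,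
    Watanabe.wt_one, OneMemClass.coe_one, LocalRank.lrank_one hM hmax, one_mul] at h
  have he0' : (e : ℂ) ≠ 0 := Nat.cast_ne_zero.2 he0.ne'
  have h2 : ((Nat.card B * e : ℕ) : ℂ) = ((blockRank p B * e + (Nat.card P - 1) : ℕ) : ℂ) := by
    push_cast [h]
    field_simp
  exact_mod_cast h2

end Cfsg.Agent.FreeInertial
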