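import Mathlib
import Cfsg.Agent.EqLemmas

/-!
# The lattice with Gram matrix `1 + e J`

Integer rows `n i` with `∑ i, n i j * n i k = e + [j = k]`, without zero rows and orthogonal to a
vector without zero entries.
-/

set_option autoImplicit false
set_option maxHeartbeats 1000000

namespace Cfsg.Agent.FreeInertial.Count

/-- The quadratic form of the path. -/
def pathForm (m : ℕ) (x : ℕ → ℤ) : ℤ :=
  x 0 ^ 2 + x m ^ 2 + ∑ j ∈ Finset.range m, (x j - x (j + 1)) ^ 2

theorem two_le_pathForm {m : ℕ} {x : ℕ → ℤ} (h : ∃ j ≤ m, x j ≠ 0) : 2 ≤ pathForm m x := by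
  have hnn : 0 ≤ pathForm m x := by
    unfold pathForm
    have := Finset.sum_nonneg (s := Finset.range m) fun j _ => sq_nonneg (x j - x (j + 1))
    positivity
  have hne : pathForm m x ≠ 0 := by
    intro h0
    unfold pathForm at h0
    have hs := Finset.sum_nonneg (s := Finset.range m) fun j _ => sq_nonneg (x j - x (j + 1))
    have h1 : x 0 ^ 2 = 0 := by nlinarith [sq_nonneg (x 0), sq_nonneg (x m)]
    have h2 : ∑ j ∈ Finset.range m, (x j - x (j + 1)) ^ 2 = 0 := by
      nlinarith [sq_nonneg (x 0), sq_nonneg (x m)]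
    have h3 := (Finset.sum_eq_zero_iff_of_nonneg fun j _ => sq_nonneg (x j - x (j + 1))).1 h2
    obtain ⟨j, hj, hxj⟩ := h
    refine hxj ?_
    clear hxj
    induction j with
    | zero => exact pow_eq_zero_iff two_ne_zero |>.1 h1
    | succ j ih =>
      have := pow_eq_zero_iff two_ne_zero |>.1 (h3 j (Finset.mem_range.2 (by omega)))
      have := ih (by omega)
      omega
  have hev : (2 : ℤ) ∣ pathForm m x := by
    have hsq : ∀ a : ℤ, (2 : ℤ) ∣ a ^ 2 - a := fun a => by
      rw [show a ^ 2 - a = (a - 1) * a by ring]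
      rcases Int.even_or_odd a with ⟨b, hb⟩ | ⟨b, hb⟩
      · exact Dvd.dvd.mul_left ⟨b, by omega⟩ _
      · exact Dvd.dvd.mul_right ⟨b, by omega⟩ _
    have h4 : pathForm m x = (x 0 ^ 2 - x 0) + (x m ^ 2 - x m) +
        ∑ j ∈ Finset.range m, ((x j - x (j + 1)) ^ 2 - (x j - x (j + 1))) + 2 * x 0 := by
      rw [Finset.sum_sub_distrib, Finset.sum_range_sub']
      unfold pathForm
      ring
    rw [h4]
    exact dvd_add (dvd_add (dvd_add (hsq _) (hsq _)) (Finset.dvd_sum fun j _ => hsq _)) ⟨x 0, rfl⟩
  omega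

/-- The number of pairs of different entries of a non-constant vector. -/
theorem le_spread {f : ℕ} {x : Fin f → ℤ} (h : ∃ j k, x j ≠ x k) :
    (f : ℤ) - 1 ≤ (f : ℤ) * ∑ j, x j ^ 2 - (∑ j, x j) ^ 2 := by
  obtain ⟨j, k, hjk⟩ := h
  have hid : ∑ a, ∑ b, (x a - x b) ^ 2 = 2 * ((f : ℤ) * ∑ j, x j ^ 2 - (∑ j, x j) ^ 2) := by
    simp only [sub_sq, Finset.sum_add_distrib, Finset.sum_sub_distrib, Finset.sum_const,
      Finset.card_univ, Fintype.card_fin, nsmul_eq_mul, ← Finset.mul_sum, ← Finset.sum_mul,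
      mul_assoc]
    ring
  set r : Fin f → ℤ := fun a => ∑ b, (x a - x b) ^ 2 with hr
  have hone : ∀ z : ℤ, z ≠ 0 → 1 ≤ z ^ 2 := fun z hz => Int.add_one_le_of_lt (sq_pos_of_ne_zero hz)
  have hjk2 : ∀ a, 1 ≤ (x a - x j) ^ 2 + (x a - x k) ^ 2 := fun a => by
    by_cases h1 : x a = x j
    · have := hone (x a - x k) (by rw [h1]; exact sub_ne_zero.2 hjk)
      nlinarith [sq_nonneg (x a - x j)]
    · have := hone (x a - x j) (sub_ne_zero.2 h1)
      nlinarith [sq_nonneg (x a - x k)]
  have hne : j ≠ k := fun h => hjk (h ▸ rfl)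
  have htwo : (f : ℤ) ≤ r j + r k := by
    simp only [hr, ← Finset.sum_add_distrib]
    calc (f : ℤ) = ∑ _b : Fin f, (1 : ℤ) := by simp
      _ ≤ _ := Finset.sum_le_sum fun b _ => by
        have := hjk2 b
        nlinarith
  have hrest : ∀ a, 1 ≤ r a := fun a => by
    refine (hjk2 a).trans ?_
    rw [hr]
    have := Finset.sum_le_sum_of_subset_of_nonneg (Finset.subset_univ ({j, k} : Finset (Fin f)))
      fun b _ _ => sq_nonneg (x a - x b)
    rwa [Finset.sum_pair hne] at this
  have hsplit : ∑ a, r a = r j + r k + ∑ a ∈ (Finset.univ.erase j).erase k, r a := by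
    rw [add_assoc, Finset.add_sum_erase _ _ (Finset.mem_erase.2 ⟨hne.symm, Finset.mem_univ k⟩),
      Finset.add_sum_erase _ _ (Finset.mem_univ j)]
  have hcard : ((f : ℤ) - 2) ≤ ∑ a ∈ (Finset.univ.erase j).erase k, r a := by
    refine le_trans ?_ (Finset.card_nsmul_le_sum _ _ 1 fun a _ => hrest a)
    rw [Finset.card_erase_of_mem (Finset.mem_erase.2 ⟨hne.symm, Finset.mem_univ k⟩),
      Finset.card_erase_of_mem (Finset.mem_univ j), Finset.card_univ, Fintype.card_fin, nsmul_one]
    omega
  linarith [hid, hsplit]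

variable {ι : Type*} [Fintype ι]

/-- The bound and the exceptional orders. -/
theorem main {f e : ℕ} (hf : 0 < f) (n : ι → Fin f → ℤ) (d : ι → ℤ) (hd : ∀ i, d i ≠ 0)
    (hgram : ∀ j k, ∑ i, n i j * n i k = (e : ℤ) + if j = k then 1 else 0)
    (hrow : ∀ i, ∃ j, n i j ≠ 0) (horth : ∀ j, ∑ i, d i * n i j = 0) :
    Fintype.card ι ≤ e + f ∧ (e ≤ 3 → Fintype.card ι = e + f ∨
      e * f + 1 = 7 ∨ e * f + 1 = 10 ∨ e * f + 1 = 13) := by
  classical
  refine ⟨?_, fun he3 => ?_⟩
  · obtain ⟨m, rfl⟩ := Nat.exists_eq_succ_of_ne_zero hf.ne'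
    let y : ι → ℕ → ℤ := fun i j => if h : j < m + 1 then n i ⟨j, h⟩ else 0
    have hy : ∀ i j (h : j < m + 1), y i j = n i ⟨j, h⟩ := fun i j h => dif_pos h
    have h2 : ∑ _i : ι, (2 : ℤ) ≤ ∑ i, pathForm m (y i) := Finset.sum_le_sum fun i _ => by
      obtain ⟨⟨j, hj⟩, hne⟩ := hrow i
      exact two_le_pathForm ⟨j, by omega, by rwa [hy i j hj]⟩
    have hsum : ∑ i, pathForm m (y i) = 2 * ((e : ℤ) + (m + 1 : ℕ)) := by
      simp only [pathForm, Finset.sum_add_distrib]
      rw [Finset.sum_comm]
      have hsq : ∀ j (h : j < m + 1), ∑ i, y i j ^ 2 = (e : ℤ) + 1 := fun j h => by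
        simp only [hy _ j h, sq]
        rw [hgram, if_pos rfl]
      rw [hsq 0 (by omega), hsq m (by omega), Finset.sum_congr rfl fun j hj => show _ = (2 : ℤ) from ?_]
      · simp only [Finset.sum_const, Finset.card_range, nsmul_eq_mul]
        push_cast
        ring
      · have hj' : j + 1 < m + 1 := by have := Finset.mem_range.1 hj; omega
        have hcross : ∑ i, y i j * y i (j + 1) = (e : ℤ) := by
          simp only [hy _ j (by omega), hy _ (j + 1) hj']
          rw [hgram, if_neg (by simp), add_zero]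
        simp only [sub_sq, Finset.sum_add_distrib, Finset.sum_sub_distrib, mul_assoc, ← Finset.mul_sum,
          hsq j (by omega), hsq (j + 1) hj', hcross]
        ring
    rw [hsum, Finset.sum_const, Finset.card_univ, nsmul_eq_mul] at h2
    omega
  -- the sums of a row
  set N : ι → ℤ := fun i => ∑ j, n i j ^ 2 with hN
  set s : ι → ℤ := fun i => ∑ j, n i j with hs
  set q : ℤ := (e : ℤ) * f + 1 with hq
  have hrow_lt : ∀ i, q * N i - e * s i ^ 2 < q := by
    intro i
    let w : Fin f → ℤ := fun j => q * n i j - e * s i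
    let Z : ι → ℤ := fun l => ∑ j, w j * n l j
    have hZi : Z i = q * N i - e * s i ^ 2 := by
      show ∑ j, w j * n i j = _
      simp only [w, sub_mul, Finset.sum_sub_distrib, mul_assoc, ← Finset.mul_sum, hN, hs, sq]
    have hw : ∑ j, w j = s i := by
      simp only [w, Finset.sum_sub_distrib, ← Finset.mul_sum, Finset.sum_const, Finset.card_univ,
        Fintype.card_fin, nsmul_eq_mul, hs, hq]
      ring
    have hsq : ∑ l, Z l ^ 2 = q * Z i := by
      calc ∑ l, Z l ^ 2 = ∑ j, ∑ k, w j * w k * ∑ l, n l j * n l k := by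
            simp only [Z, sq, Finset.sum_mul_sum]
            rw [Finset.sum_comm]
            refine Finset.sum_congr rfl fun j _ => ?_
            rw [Finset.sum_comm]
            refine Finset.sum_congr rfl fun k _ => ?_
            rw [Finset.mul_sum]
            exact Finset.sum_congr rfl fun l _ => by ring
        _ = (e : ℤ) * (∑ j, w j) ^ 2 + ∑ j, w j ^ 2 := by
            simp only [hgram, mul_add, Finset.sum_add_distrib, mul_ite, mul_one, mul_zero,
              Finset.sum_ite_eq, Finset.mem_univ, if_true, ← sq]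
            rw [sq (∑ j, w j), Finset.sum_mul_sum, Finset.mul_sum]
            congr 1
            refine Finset.sum_congr rfl fun j _ => ?_
            rw [Finset.mul_sum]
            exact Finset.sum_congr rfl fun k _ => by ring
        _ = q * Z i := by
            have h2 : ∑ j, w j ^ 2 = q * Z i - e * s i * ∑ j, w j := by
              rw [Finset.mul_sum, Finset.mul_sum, ← Finset.sum_sub_distrib]
              exact Finset.sum_congr rfl fun j _ => by simp only [w]; ring
            rw [h2, hw]
            ring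
    by_contra hlt
    push Not at hlt
    have hq0 : (0 : ℤ) < q := by positivity
    have h1 : Z i ^ 2 + ∑ l ∈ Finset.univ.erase i, Z l ^ 2 = q * Z i :=
      (Finset.add_sum_erase Finset.univ (fun l => Z l ^ 2) (Finset.mem_univ i)).trans hsq
    have h2 : ∑ l ∈ Finset.univ.erase i, Z l ^ 2 = 0 := by
      have := Finset.sum_nonneg (s := Finset.univ.erase i) fun l _ => sq_nonneg (Z l)
      nlinarith [hZi]
    have h3 := (Finset.sum_eq_zero_iff_of_nonneg fun l _ => sq_nonneg (Z l)).1 h2
    have h4 : ∑ l, d l * Z l = 0 := by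
      simp only [Z, Finset.mul_sum]
      rw [Finset.sum_comm]
      refine Finset.sum_eq_zero fun j _ => ?_
      rw [← mul_zero (w j), ← horth j, Finset.mul_sum]
      exact Finset.sum_congr rfl fun l _ => by ring
    rw [Finset.sum_eq_single i (fun l _ hl => by
      rw [pow_eq_zero_iff two_ne_zero |>.1 (h3 l (Finset.mem_erase.2 ⟨hl, Finset.mem_univ l⟩)),
        mul_zero]) (fun h => absurd (Finset.mem_univ i) h), hZi] at h4
    rcases mul_eq_zero.1 h4 with h | h
    · exact hd i h
    · omega
  have hNpos : ∀ i, 1 ≤ N i := fun i => by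
    obtain ⟨j, hj⟩ := hrow i
    have h1 : 1 ≤ n i j ^ 2 := Int.add_one_le_of_lt (sq_pos_of_ne_zero hj)
    exact h1.trans (Finset.single_le_sum (fun k _ => sq_nonneg (n i k)) (Finset.mem_univ j))
  have hNsum : ∑ i, N i = (f : ℤ) * (e + 1) := by
    simp only [hN, sq]
    rw [Finset.sum_comm]
    simp [hgram]
  by_cases hf1 : f = 1
  · subst hf1
    left
    have h1 : ∀ i, N i = 1 := fun i => by
      have hsN : s i ^ 2 = N i := by simp [hs, hN, Fin.sum_univ_one]
      have hlt := hrow_lt i
      rw [hsN, hq] at hlt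
      have hN4 : N i < 4 := by push_cast at hlt; nlinarith
      rw [← hsN] at hN4 ⊢
      have hlo : -2 < s i := by nlinarith
      have hhi : s i < 2 := by nlinarith
      have hp := hNpos i
      rw [← hsN] at hp
      interval_cases (s i) <;> norm_num at *
    simp only [h1, Finset.sum_const, Finset.card_univ, nsmul_eq_mul, mul_one] at hNsum
    push_cast at hNsum
    omega
  have hf2 : (2 : ℤ) ≤ f := by omega
  have hconst : ∀ i, (∀ j k, n i j = n i k) → N i = f ∧ s i ^ 2 = (f : ℤ) * f := by
    intro i hc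
    obtain ⟨j0, hj0⟩ := hrow i
    have hNm : N i = (f : ℤ) * n i j0 ^ 2 := by simp [hN, fun j => hc j j0]
    have hsm : s i = (f : ℤ) * n i j0 := by simp [hs, fun j => hc j j0]
    have hlt := hrow_lt i
    rw [hNm, hsm, hq] at hlt
    have h4 : n i j0 ^ 2 < 4 := by
      by_contra h
      push Not at h
      nlinarith
    have h1 : n i j0 ^ 2 = 1 := by
      have hlo : -2 < n i j0 := by nlinarith
      have hhi : n i j0 < 2 := by nlinarith
      interval_cases (n i j0) <;> norm_num at *
    exact ⟨by rw [hNm, h1, mul_one], by rw [hsm, mul_pow, h1, mul_one, sq]⟩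
  have hnc : ∀ i, ¬ (∀ j k, n i j = n i k) →
      (f : ℤ) * N i - s i ^ 2 = f - 1 ∧ N i ≤ e := by
    intro i hc
    push Not at hc
    have hW : (f : ℤ) - 1 ≤ (f : ℤ) * N i - s i ^ 2 := le_spread hc
    have hlt := hrow_lt i
    rw [hq] at hlt
    have hp := hNpos i
    have h0 : ((f : ℤ) * N i - s i ^ 2) - (f - 1) < 1 := by
      by_contra h
      push Not at h
      nlinarith
    refine ⟨by omega, ?_⟩
    have : (f : ℤ) * N i - s i ^ 2 = f - 1 := by omega
    nlinarith
  by_cases hbig : ∃ i, ¬ (∀ j k, n i j = n i k) ∧ 2 ≤ N i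
  · right
    obtain ⟨i, hc, hN2⟩ := hbig
    obtain ⟨hW, hNe⟩ := hnc i hc
    have habs : s i ^ 2 ≤ N i ^ 2 := by
      refine sq_le_sq' ?_ ?_
      · rw [← Finset.sum_neg_distrib]
        exact Finset.sum_le_sum fun j _ => by nlinarith [sq_nonneg (n i j + 1), Int.le_self_sq (-(n i j))]
      · exact Finset.sum_le_sum fun j _ => Int.le_self_sq _
    have hN3 : N i ≤ 3 := by omega
    have hlo : -4 < s i := by nlinarith
    have hhi : s i < 4 := by nlinarith
    interval_cases hNi : (N i) <;> interval_cases hsi : (s i) <;> norm_num at hW habs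
    all_goals first
      | omega
      | (have hfe : f = 3 := by omega
         subst hfe
         interval_cases e <;> omega)
      | (have hfe : f = 4 := by omega
         subst hfe
         interval_cases e <;> omega)
  left
  push Not at hbig
  have hsN : ∀ i, ¬ (∀ j k, n i j = n i k) → N i = 1 := fun i hc => by
    have := hbig i (by push Not at hc; exact hc)
    have := hNpos i
    omega
  set S := Finset.univ.filter fun i => ¬ ∀ j k, n i j = n i k with hS
  have hWsum : ∑ i, ((f : ℤ) * N i - s i ^ 2) = (f : ℤ) * f - f := by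
    have hs2 : ∑ i, s i ^ 2 = (e : ℤ) * f * f + f := by
      simp only [hs, sq, Finset.sum_mul_sum]
      rw [Finset.sum_comm]
      rw [Finset.sum_congr rfl fun j _ => Finset.sum_comm]
      simp [hgram, Finset.sum_add_distrib]
      ring
    rw [Finset.sum_sub_distrib, ← Finset.mul_sum, hNsum, hs2]
    ring
  rw [Finset.sum_congr rfl fun i _ => show _ = if ¬ ∀ j k, n i j = n i k then (f : ℤ) - 1 else 0 by
    split_ifs with h
    · obtain ⟨h1, h2⟩ := hconst i h
      rw [h1, h2, sub_self]
    · exact (hnc i h).1, ← Finset.sum_filter, Finset.sum_const, nsmul_eq_mul] at hWsum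
  have hSf : (S.card : ℤ) = f := by
    have : ((S.card : ℤ) - f) * ((f : ℤ) - 1) = 0 := by rw [hS]; linarith
    rcases mul_eq_zero.1 this with h | h <;> omega
  rw [Finset.sum_congr rfl fun i _ => show N i = if ¬ ∀ j k, n i j = n i k then 1 else (f : ℤ) by
    split_ifs with h
    · exact (hconst i h).1
    · exact hsN i h, Finset.sum_ite, Finset.sum_const, Finset.sum_const, nsmul_eq_mul, nsmul_eq_mul,
    mul_one] at hNsum
  have hc := Finset.card_filter_add_card_filter_not (s := (Finset.univ : Finset ι))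
    (p := fun i => ¬ ∀ j k, n i j = n i k)
  rw [Finset.card_univ] at hc
  rw [← hS] at hNsum hc
  set T := (Finset.univ.filter fun i => ¬ ¬ ∀ j k, n i j = n i k).card
  have hT : ((T : ℤ) - e) * f = 0 := by linarith
  rcases mul_eq_zero.1 hT with h | h <;> omega

end Cfsg.Agent.FreeInertial.Count
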