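import Cfsg.Agent.Lib.Blocks.Watanabe
import Cfsg.Agent.Lib.BlocksNormal.CentralizedDefect
import Cfsg.Agent.Lib.Star.Nilpotent
import Cfsg.Agent.S4687

/-!
# The blocks below a maximal pair with free inertial quotient

* `blk`, `th`: the block at `Q` below `(P, c)` and one of its characters, on the group;
* `Free`: the inertial quotient acts freely on the non-trivial elements of `P`;
* `nilpotent_at`, `th_reg`, `regInner_th`: for `Q ≠ ⊥` all characters of the block at `Q` have the
  same regular part;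
* `dec`: the generalised decomposition numbers; `piece_local`, `dec_integral`.
-/

set_option autoImplicit false
set_option maxHeartbeats 1000000
set_option synthInstance.maxHeartbeats 200000
set_option linter.unusedSectionVars false

open scoped ComplexConjugate

namespace Cfsg.Agent.FreeInertial

open Cfsg Cfsg.Agent.Blocks Cfsg.Agent.BrauerPairs Cfsg.Agent.SecondMain

variable {G : Type*} [Group G] [Finite G] {p : ℕ} [Fact p.Prime] {M : Ideal AlgInt}
  {B : Set (IrrCharacter G)} {P : Subgroup G}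
  {c : Set (IrrCharacter (Subgroup.centralizer (P : Set G)))}

/-- The stabiliser acts freely. -/
def Free (M : Ideal AlgInt) (P : Subgroup G)
    (c : Set (IrrCharacter (Subgroup.centralizer (P : Set G)))) : Prop :=
  ∀ t ∈ pairStab M P c, ∀ x ∈ P, x ≠ 1 → t * x * t⁻¹ = x → t ∈ Subgroup.centralizer (P : Set G)

/-- The block at `Q` below `(P, c)`. -/
noncomputable def blk (p : ℕ) (M : Ideal AlgInt) (P : Subgroup G)
    (c : Set (IrrCharacter (Subgroup.centralizer (P : Set G)))) (Q : Subgroup G) :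
    Set (IrrCharacter (Subgroup.centralizer (Q : Set G))) :=
  haveI : Inhabited (Set (IrrCharacter (Subgroup.centralizer (Q : Set G)))) := ⟨∅⟩
  Classical.epsilon fun f => IsPBlock M f ∧ SubpairLE p M Q f P c

open scoped Classical in
/-- A character of the block at `Q`, as a function on the group. -/
noncomputable def th (p : ℕ) (M : Ideal AlgInt) (P : Subgroup G)
    (c : Set (IrrCharacter (Subgroup.centralizer (P : Set G)))) (Q : Subgroup G) : G → ℂ :=
  if h : (blk p M P c Q).Nonempty then
    ext _ (h.choose : Subgroup.centralizer (Q : Set G) → ℂ)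
  else 0

theorem blk_spec (hM : IsPModular p M) (hmax : IsMaximalBrauerPair p M B P c) {Q : Subgroup G}
    (hQ : Q ≤ P) : IsPBlock M (blk p M P c Q) ∧ SubpairLE p M Q (blk p M P c Q) P c := by
  obtain ⟨f, hf, hle⟩ := exists_subpair hM (P := P) (e := c) hmax.1.1 hQ
  haveI : Inhabited (Set (IrrCharacter (Subgroup.centralizer (Q : Set G)))) := ⟨∅⟩
  exact Classical.epsilon_spec (p := fun f => IsPBlock M f ∧ SubpairLE p M Q f P c) ⟨f, hf, hle⟩

theorem blk_eq (hM : IsPModular p M) (hmax : IsMaximalBrauerPair p M B P c) {Q : Subgroup G}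
    (hQ : Q ≤ P) {f : Set (IrrCharacter (Subgroup.centralizer (Q : Set G)))}
    (hle : SubpairLE p M Q f P c) : f = blk p M P c Q :=
  subpair_unique hM hmax.1.1 hle (blk_spec hM hmax hQ).2

theorem blk_self (hM : IsPModular p M) (hmax : IsMaximalBrauerPair p M B P c) :
    blk p M P c P = c :=
  (blk_eq hM hmax le_rfl Relation.ReflTransGen.refl).symm

theorem le_normalizer_of_le (hab : ∀ x ∈ P, ∀ y ∈ P, x * y = y * x) {Q : Subgroup G} (hQ : Q ≤ P) :
    P ≤ Subgroup.normalizer (Q : Set G) :=
  (LocalRank.le_centralizer hab hQ).trans (Subgroup.centralizer_le_normalizer _)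

/-- A local maximal pair, with the image of its idempotent. -/
theorem exists_local (hM : IsPModular p M) (hmax : IsMaximalBrauerPair p M B P c)
    (hab : ∀ x ∈ P, ∀ y ∈ P, x * y = y * x) {Q : Subgroup G} (hQP : Q ≤ P) :
    ∃ (P' : Subgroup (Subgroup.centralizer (Q : Set G)))
      (c' : Set (IrrCharacter (Subgroup.centralizer (P' : Set (Subgroup.centralizer (Q : Set G)))))),
      IsMaximalBrauerPair p M (blk p M P c Q) P' c' ∧
      P'.map (Subgroup.centralizer (Q : Set G)).subtype = P ∧
      emb (Subgroup.centralizer (Q : Set G)) (cb M P' c') = cb M P c ∧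
      ∀ x : Subgroup.centralizer (Q : Set G), x ∈ pairStab M P' c' ↔ (x : G) ∈ pairStab M P c := by
  obtain ⟨hf, hle⟩ := blk_spec hM hmax hQP
  generalize blk p M P c Q = f at hf hle ⊢
  obtain ⟨hPH, hD⟩ := KleinDefect.local_defectGroup hM hmax hab hf hle
  obtain ⟨-, hPe, -, -, -, hbr⟩ := (isNormalSubpair_iff hM).1
    (normalSubpair_of_le hM hmax.1.1 hle (hPH.trans (centralizer_le_normalizer hM Q)))
  obtain ⟨P', hmap, hP'⟩ := KleinDefect.exists_down hPH
  rw [← hP'] at hD
  clear hP' hle hmax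
  subst hmap
  have hC : Subgroup.centralizer
      ((P'.map (Subgroup.centralizer (Q : Set G)).subtype : Subgroup G) : Set G) ≤
        Subgroup.centralizer (Q : Set G) :=
    Subgroup.centralizer_le hQP
  obtain ⟨e', he', hup⟩ := exists_upBlock hM P' hC hPe.2
  subst hup
  have hpair : IsBrauerPairOf p M f P' e' :=
    (isBrauerPairOf_sub_iff hM P' hC hf he').2 ⟨hPe.1, hbr⟩
  refine ⟨P', e', isMaximal_of_isDefectGroup hM hpair hD, rfl, emb_cb hM P' hC e', fun x => ?_⟩
  rw [mem_pairStab, mem_pairStab, mem_normalizer_sub_iff hM P' x, ← emb_cb hM P' hC, ← emb_cj,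
    (emb_injective _).eq_iff]

theorem comm_local {H P : Subgroup G} {P' : Subgroup H} (hmap : P'.map H.subtype = P)
    (hab : ∀ x ∈ P, ∀ y ∈ P, x * y = y * x) : ∀ x ∈ P', ∀ y ∈ P', x * y = y * x :=
  fun _ hx _ hy => Subtype.ext
    (hab _ (hmap ▸ Subgroup.mem_map_of_mem _ hx) _ (hmap ▸ Subgroup.mem_map_of_mem _ hy))

/-- The blocks at the non-trivial subgroups are nilpotent. -/
theorem nilpotent_at (hM : IsPModular p M) (hmax : IsMaximalBrauerPair p M B P c)
    (hab : ∀ x ∈ P, ∀ y ∈ P, x * y = y * x) (hfree : Free M P c) {Q : Subgroup G} (hQP : Q ≤ P)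
    (hQ : Q ≠ ⊥) {P' : Subgroup (Subgroup.centralizer (Q : Set G))}
    {c' : Set (IrrCharacter (Subgroup.centralizer (P' : Set (Subgroup.centralizer (Q : Set G)))))}
    (hmax' : IsMaximalBrauerPair p M (blk p M P c Q) P' c')
    (hmap : P'.map (Subgroup.centralizer (Q : Set G)).subtype = P)
    (hst : ∀ x : Subgroup.centralizer (Q : Set G), x ∈ pairStab M P' c' ↔ (x : G) ∈ pairStab M P c) :
    IsNilpotentBlock p M (blk p M P c Q) := by
  have := Fintype.ofFinite (Subgroup.centralizer (Q : Set G))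
  refine (S4687.result p M hM _ P' c' hmax' (comm_local hmap hab)).2 fun x hxN hxs => ?_
  have hx := (hst x).1 ((mem_pairStab_iff hM hmax'.1.1.2).2 ⟨hxN, hxs⟩)
  obtain ⟨q, hq, hq1⟩ : ∃ q ∈ Q, q ≠ 1 := by
    by_contra h
    push Not at h
    exact hQ ((Subgroup.eq_bot_iff_forall Q).2 h)
  have hfix : (x : G) * q * (x : G)⁻¹ = q := by
    rw [← Subgroup.mem_centralizer_iff.1 x.2 q hq, mul_inv_cancel_right]
  have hxC := hfree _ hx q (hQP hq) hq1 hfix
  refine Subgroup.mem_centralizer_iff.2 fun w hw => Subtype.ext ?_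
  exact Subgroup.mem_centralizer_iff.1 hxC (w : G) (hmap ▸ Subgroup.mem_map_of_mem _ hw)

/-- All characters of a local block have the same regular part. -/
theorem local_summary (hM : IsPModular p M) (hmax : IsMaximalBrauerPair p M B P c)
    (hab : ∀ x ∈ P, ∀ y ∈ P, x * y = y * x) (hfree : Free M P c) {Q : Subgroup G} (hQP : Q ≤ P)
    (hQ : Q ≠ ⊥) : Nat.card (blk p M P c Q) = Nat.card P ∧
      (∀ η ∈ blk p M P c Q, blockHeight p (blk p M P c Q)
        ((η : IrrCharacter (Subgroup.centralizer (Q : Set G))) : _ → ℂ) = 0) ∧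
      ∀ η ∈ blk p M P c Q, ∀ η' ∈ blk p M P c Q, ∀ m : Subgroup.centralizer (Q : Set G),
        ¬ p ∣ orderOf m → (η : Subgroup.centralizer (Q : Set G) → ℂ) m =
          (η' : Subgroup.centralizer (Q : Set G) → ℂ) m := by
  classical
  obtain ⟨P', c', hmax', hmap, -, hst⟩ := exists_local hM hmax hab hQP
  have hnil := nilpotent_at hM hmax hab hfree hQP hQ hmax' hmap hst
  obtain ⟨χ, -, -, Ψ, hΨ⟩ := Star.nilpotent_summary hM hnil (maximal_isDefectGroup hM hmax')
  have hab' := comm_local hmap hab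
  have hdeg : ∀ η : IrrCharacter P', charDegree (η : P' → ℂ) = 1 := fun η => by
    have h := Char.apply_one_eq_one_of_comm (G := P')
      (fun a b => Subtype.ext (hab' a a.2 b b.2)) η
    have h' : (charDegree (η : P' → ℂ) : ℂ) = ((1 : ℕ) : ℂ) := by
      rw [Blocks.charDegree_cast, h, Nat.cast_one]
    exact_mod_cast h'
  have hcard : Nat.card (IrrCharacter P') = Nat.card P := by
    rw [← hmap, ← Nat.card_congr (Subgroup.equivMapOfInjective P' _
      (Subgroup.subtype_injective _)).toEquiv]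
    rw [Char.card_irr_eq_card_conjClasses]
    refine (Nat.card_congr (Equiv.ofBijective ConjClasses.mk ⟨fun a b h => ?_, ConjClasses.mk_surjective⟩)).symm
    obtain ⟨g, hg⟩ := isConj_iff.1 (ConjClasses.mk_eq_mk_iff_isConj.1 h)
    have hga : g * a = a * g := Subtype.ext (hab' g g.2 a a.2)
    rw [← hg, hga, mul_inv_cancel_right]
  refine ⟨by rw [← Nat.card_congr Ψ, hcard], fun η hη => ?_, fun η hη η' hη' m hm => ?_⟩
  · obtain ⟨l, hl⟩ := Ψ.surjective ⟨η, hη⟩
    have h := (hΨ l).1
    rw [hl, hdeg, Nat.factorization_one] at h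
    simpa using h
  · have key : ∀ η ∈ blk p M P c Q, (η : Subgroup.centralizer (Q : Set G) → ℂ) m =
        (χ : Subgroup.centralizer (Q : Set G) → ℂ) m := by
      intro η hη
      obtain ⟨l, hl⟩ := Ψ.surjective ⟨η, hη⟩
      have h := (hΨ l).2 m
      rw [hl, hdeg, pRegularPart_of_regular hm, pRegularPart_of_regular hm, Nat.cast_one, one_mul] at h
      exact h
    rw [key η hη, key η' hη']

theorem exists_th (hM : IsPModular p M) (hmax : IsMaximalBrauerPair p M B P c) {Q : Subgroup G}
    (hQ : Q ≤ P) : ∃ θ ∈ blk p M P c Q,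
      th p M P c Q = ext _ (θ : Subgroup.centralizer (Q : Set G) → ℂ) := by
  have h : (blk p M P c Q).Nonempty := isPBlock_nonempty hM (blk_spec hM hmax hQ).1
  exact ⟨h.choose, h.choose_spec, by rw [th, dif_pos h]⟩

theorem th_inv (hM : IsPModular p M) (hmax : IsMaximalBrauerPair p M B P c) {Q : Subgroup G}
    (hQ : Q ≤ P) : ∀ h ∈ Subgroup.centralizer (Q : Set G), ∀ n,
      th p M P c Q (h * n * h⁻¹) = th p M P c Q n := by
  obtain ⟨θ, -, hth⟩ := exists_th hM hmax hQ
  intro h hh n
  rw [hth]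
  exact ext_conj (irr_class θ) hh n

/-- The regular part of every character of the block at `Q`. -/
theorem th_reg (hM : IsPModular p M) (hmax : IsMaximalBrauerPair p M B P c)
    (hab : ∀ x ∈ P, ∀ y ∈ P, x * y = y * x) (hfree : Free M P c) {Q : Subgroup G} (hQP : Q ≤ P)
    (hQ : Q ≠ ⊥) {η : IrrCharacter (Subgroup.centralizer (Q : Set G))} (hη : η ∈ blk p M P c Q)
    {m : Subgroup.centralizer (Q : Set G)} (hm : ¬ p ∣ orderOf m) :
    (η : Subgroup.centralizer (Q : Set G) → ℂ) m = th p M P c Q m := by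
  obtain ⟨θ, hθ, hth⟩ := exists_th hM hmax hQP
  rw [hth, ext_coe]
  exact (local_summary hM hmax hab hfree hQP hQ).2.2 η hη θ hθ m hm

theorem th_one_ne_zero (hM : IsPModular p M) (hmax : IsMaximalBrauerPair p M B P c)
    {Q : Subgroup G} (hQ : Q ≤ P) : th p M P c Q 1 ≠ 0 := by
  obtain ⟨θ, -, hth⟩ := exists_th hM hmax hQ
  rw [hth, ← OneMemClass.coe_one (Subgroup.centralizer (Q : Set G)), ext_coe]
  exact irr_one_ne_zero θ

open scoped Classical in
theorem regInner_th {Q : Subgroup G} [Fintype (Subgroup.centralizer (Q : Set G))] (hM : IsPModular p M) (hmax : IsMaximalBrauerPair p M B P c)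
    (hab : ∀ x ∈ P, ∀ y ∈ P, x * y = y * x) (hfree : Free M P c) (hQP : Q ≤ P)
    (hQ : Q ≠ ⊥) :
    regInner p (fun m : Subgroup.centralizer (Q : Set G) => th p M P c Q m)
      (fun m : Subgroup.centralizer (Q : Set G) => th p M P c Q m) = (Nat.card P : ℂ)⁻¹ := by
  have := Fintype.ofFinite (IrrCharacter (Subgroup.centralizer (Q : Set G)))
  obtain ⟨θ, hθ, hth⟩ := exists_th hM hmax hQP
  obtain ⟨hcard, -, hreg⟩ := local_summary hM hmax hab hfree hQP hQ
  simp only [hth, ext_coe]
  set a := regInner p (θ : Subgroup.centralizer (Q : Set G) → ℂ)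
    (θ : Subgroup.centralizer (Q : Set G) → ℂ) with ha
  have hall : ∀ η ∈ blk p M P c Q, ∀ η' ∈ blk p M P c Q,
      regInner p (η : Subgroup.centralizer (Q : Set G) → ℂ)
        (η' : Subgroup.centralizer (Q : Set G) → ℂ) = a := by
    intro η hη η' hη'
    rw [ha, regInner_eq_sum, regInner_eq_sum]
    congr 1
    refine Finset.sum_congr rfl fun g hg => ?_
    rw [hreg η hη θ hθ g (Finset.mem_filter.1 hg).2, hreg η' hη' θ hθ g (Finset.mem_filter.1 hg).2]
  have h := regInner_idem hM (blk_spec hM hmax hQP).1 hθ (θ : Subgroup.centralizer (Q : Set G) → ℂ)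
  rw [finsum_mem_eq_toFinset_sum, Finset.sum_congr rfl fun η hη => by
    rw [hall θ hθ η (Set.mem_toFinset.1 hη), hall η (Set.mem_toFinset.1 hη) θ hθ],
    Finset.sum_const, nsmul_eq_mul, Set.toFinset_card, ← Nat.card_eq_fintype_card, hcard] at h
  have ha0 : a ≠ 0 := by
    intro h0
    rw [ha, regInner_eq_sum, mul_eq_zero] at h0
    have h1 := h0.resolve_left (inv_ne_zero card_ne_zero_C)
    have h2 : ∑ g ∈ Finset.univ.filter (fun g : Subgroup.centralizer (Q : Set G) => ¬ p ∣ orderOf g),
        Complex.normSq ((θ : Subgroup.centralizer (Q : Set G) → ℂ) g) = 0 := by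
      apply Complex.ofReal_injective
      push_cast
      rw [← h1]
      exact Finset.sum_congr rfl fun g _ => (Complex.mul_conj _).symm
    exact irr_one_ne_zero θ (Complex.normSq_eq_zero.1
      ((Finset.sum_eq_zero_iff_of_nonneg fun g _ => Complex.normSq_nonneg _).1 h2 1
        (Finset.mem_filter.2 ⟨Finset.mem_univ _, by simpa using hM.1.one_lt.ne'⟩)))
  refine eq_inv_of_mul_eq_one_left (mul_left_cancel₀ ha0 ?_)
  rw [mul_one]
  change a * (a * (Nat.card P : ℂ)) = a
  linear_combination h

theorem lrank_eq_one (hM : IsPModular p M) (hmax : IsMaximalBrauerPair p M B P c)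
    (hab : ∀ x ∈ P, ∀ y ∈ P, x * y = y * x) (hfree : Free M P c) {Q : Subgroup G} (hQP : Q ≤ P)
    (hQ : Q ≠ ⊥) : LocalRank.lrank p M P c Q = 1 := by
  classical
  obtain ⟨hf, hle⟩ := blk_spec hM hmax hQP
  obtain ⟨θ, hθ, -⟩ := exists_th hM hmax hQP
  have hreg := (local_summary hM hmax hab hfree hQP hQ).2.2
  rw [LocalRank.lrank_eq hM hmax.1.1 hle, blockRank]
  have hspan : Submodule.span ℂ
      ((fun χ : IrrCharacter (Subgroup.centralizer (Q : Set G)) =>
        pRegularPart p (χ : Subgroup.centralizer (Q : Set G) → ℂ)) '' blk p M P c Q) =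
      Submodule.span ℂ {pRegularPart p (θ : Subgroup.centralizer (Q : Set G) → ℂ)} := by
    congr 1
    refine Set.eq_singleton_iff_unique_mem.2 ⟨⟨θ, hθ, rfl⟩, ?_⟩
    rintro _ ⟨η, hη, rfl⟩
    funext m
    show pRegularPart p _ m = pRegularPart p _ m
    by_cases hm : p ∣ orderOf m
    · rw [pRegularPart_of_singular hm, pRegularPart_of_singular hm]
    · rw [pRegularPart_of_regular hm, pRegularPart_of_regular hm, hreg η hη θ hθ m hm]
  rw [hspan, finrank_span_singleton]
  intro h
  have h1 := congrFun h 1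
  rw [pRegularPart_of_regular (by simpa using hM.1.one_lt.ne')] at h1
  exact irr_one_ne_zero θ h1

/-- The generalised decomposition number at `v`, for the block at `Q`. -/
noncomputable def dec (p : ℕ) (M : Ideal AlgInt) (P : Subgroup G)
    (c : Set (IrrCharacter (Subgroup.centralizer (P : Set G)))) (Q : Subgroup G) (f : G → ℂ)
    (v : G) : ℂ :=
  haveI := Fintype.ofFinite (Subgroup.centralizer (Q : Set G))
  (Nat.card P : ℂ) * regInner p (fun m : Subgroup.centralizer (Q : Set G) => f (v * m))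
    (fun m : Subgroup.centralizer (Q : Set G) => th p M P c Q m)

theorem dec_def (Q : Subgroup G) [Fintype (Subgroup.centralizer (Q : Set G))] (f : G → ℂ) (v : G) :
    dec p M P c Q f v =
      (Nat.card P : ℂ) * regInner p (fun m : Subgroup.centralizer (Q : Set G) => f (v * m))
        (fun m : Subgroup.centralizer (Q : Set G) => th p M P c Q m) := by
  unfold dec
  congr!

open scoped Classical in
theorem blockPart_eq_dec (hM : IsPModular p M) (hmax : IsMaximalBrauerPair p M B P c)
    (hab : ∀ x ∈ P, ∀ y ∈ P, x * y = y * x) (hfree : Free M P c) {Q : Subgroup G} (hQP : Q ≤ P)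
    (hQ : Q ≠ ⊥) (f : G → ℂ) (v : G) {m : Subgroup.centralizer (Q : Set G)}
    (hm : ¬ p ∣ orderOf m) :
    blockPart (blk p M P c Q) (fun x : Subgroup.centralizer (Q : Set G) => f (v * x)) m =
      dec p M P c Q f v * th p M P c Q m := by
  have := Fintype.ofFinite (IrrCharacter (Subgroup.centralizer (Q : Set G)))
  have := Fintype.ofFinite (Subgroup.centralizer (Q : Set G))
  obtain ⟨hf, -⟩ := blk_spec hM hmax hQP
  obtain ⟨hcard, -, -⟩ := local_summary hM hmax hab hfree hQP hQ
  set θv := fun x : Subgroup.centralizer (Q : Set G) => f (v * x)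
  rw [blockPart_congr_regular hM hf (θ' := pRegularPart p θv)
    (fun x hx => (pRegularPart_of_regular hx).symm) hm, blockPart_apply, finsum_mem_eq_toFinset_sum,
    Finset.sum_congr rfl fun η hη => show _ = regInner p θv
      (fun x : Subgroup.centralizer (Q : Set G) => th p M P c Q x) * th p M P c Q m from ?_,
    Finset.sum_const, nsmul_eq_mul, Set.toFinset_card, ← Nat.card_eq_fintype_card, hcard, dec_def]
  · ring
  · rw [th_reg hM hmax hab hfree hQP hQ (Set.mem_toFinset.1 hη) hm]
    congr 1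
    show regInner p θv _ = _
    rw [regInner_eq_sum, regInner_eq_sum]
    congr 1
    refine Finset.sum_congr rfl fun g hg => ?_
    rw [th_reg hM hmax hab hfree hQP hQ (Set.mem_toFinset.1 hη) (Finset.mem_filter.1 hg).2]

open scoped Classical in
/-- The local form of a piece. -/
theorem piece_local [Fintype G] (hM : IsPModular p M) (hmax : IsMaximalBrauerPair p M B P c)
    (hab : ∀ x ∈ P, ∀ y ∈ P, x * y = y * x) (hfree : Free M P c) {Q : Subgroup G} (hQP : Q ≤ P)
    (hQ : Q ≠ ⊥) {f : G → ℂ}
    (hf : ∀ h ∈ Subgroup.centralizer (Q : Set G), ∀ n, f (h * n * h⁻¹) = f n) {v : G}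
    (hv : ∀ h ∈ Subgroup.centralizer (Q : Set G), Commute v h) {m : G}
    (hm : m ∈ Subgroup.centralizer (Q : Set G)) (hreg : ¬ p ∣ orderOf m) :
    ∑ k, subgroupBlockCoeff (Subgroup.centralizer (Q : Set G)) (blk p M P c Q) k * f (k * (v * m)) =
      dec p M P c Q f v * th p M P c Q m := by
  set C := Subgroup.centralizer (Q : Set G) with hC
  have := Fintype.ofFinite C
  have hcls : IsClassFunction C (fun x : C => f (v * x)) := fun x h => by
    show f (v * ((h : G) * x * (h : G)⁻¹)) = f (v * x)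
    rw [← hf (h : G) h.2 (v * x)]
    congr 1
    rw [← mul_assoc, ← mul_assoc, (hv _ h.2).eq]
    group
  have h := blockPart_eq_dec hM hmax hab hfree hQP hQ f v (m := ⟨m, hm⟩)
    (by rwa [← Subgroup.orderOf_coe])
  rw [blockPart_eq_sum _ hcls] at h
  rw [← h, ← Finset.sum_filter_of_ne (s := (Finset.univ : Finset G)) (p := (· ∈ C))]
  · rw [Finset.sum_subtype (p := (· ∈ C)) (Finset.univ.filter (· ∈ C)) (fun x => by simp)
      fun k => subgroupBlockCoeff C (blk p M P c Q) k * f (k * (v * m))]
    refine Finset.sum_congr rfl fun k _ => ?_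
    rw [subgroupBlockCoeff, dif_pos k.2]
    show _ = _ * f (v * ((k : G) * m))
    rw [← mul_assoc (k : G), ← (hv _ k.2).eq, mul_assoc]
  · intro k _ hk
    by_contra hkC
    exact hk (by rw [subgroupBlockCoeff, dif_neg hkC, zero_mul])

open scoped Classical in
/-- Generalised decomposition numbers are algebraic integers. -/
theorem dec_integral (hM : IsPModular p M) (hmax : IsMaximalBrauerPair p M B P c)
    (hab : ∀ x ∈ P, ∀ y ∈ P, x * y = y * x) (hfree : Free M P c) {Q : Subgroup G} (hQP : Q ≤ P)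
    (hQ : Q ≠ ⊥) {f : G → ℂ}
    (hf : IsGeneralizedCharacter _ fun m : Subgroup.centralizer (Q : Set G) => f m) {v : G}
    (hvC : v ∈ Subgroup.centralizer (Q : Set G))
    (hv : ∀ h ∈ Subgroup.centralizer (Q : Set G), Commute v h) :
    IsIntegral ℤ (dec p M P c Q f v) := by
  set C := Subgroup.centralizer (Q : Set G) with hC
  have := Fintype.ofFinite C
  have := Fintype.ofFinite (IrrCharacter C)
  obtain ⟨θ, hθ, hth⟩ := exists_th hM hmax hQP
  have h1 : ¬ p ∣ orderOf (1 : C) := by simpa using hM.1.one_lt.ne'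
  have h := blockPart_eq_dec hM hmax hab hfree hQP hQ f v (m := (1 : C)) h1
  rw [blockPart_apply, finsum_mem_eq_toFinset_sum,
    Finset.sum_congr rfl fun η hη => by
      rw [th_reg hM hmax hab hfree hQP hQ (Set.mem_toFinset.1 hη) h1], ← Finset.sum_mul] at h
  have h' := mul_right_cancel₀ (by
    rw [OneMemClass.coe_one]; exact th_one_ne_zero hM hmax hQP) h
  rw [← h']
  refine IsIntegral.sum _ fun η _ => ?_
  set v' : C := ⟨v, hvC⟩
  have hG' : Subgroup.zpowers v' ⊔ Subgroup.centralizer (Subgroup.zpowers v' : Set C) = ⊤ :=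
    eq_top_iff.2 fun x _ => Subgroup.mem_sup_right
      (mem_centralizer_zpowers_iff.2 (Subtype.ext (hv (x : G) x.2).eq))
  obtain ⟨k, hk⟩ : ∃ k : ℤ, classInner (fun m : C => f m) (η : C → ℂ) = k :=
    Char.IsGeneralizedCharacter.classInner_int hf
      (Char.isGeneralizedCharacter_of_isCharacter (Char.IsIrrCharacter.isCharacter η.2))
  set ω := (η : C → ℂ) v'⁻¹ / (η : C → ℂ) 1 with hω
  have hval : classInner (fun x : C => f (v * x)) (η : C → ℂ) = conj ω * k := by
    rw [← hk]
    simp only [classInner]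
    rw [mul_left_comm (conj ω), Finset.mul_sum (a := conj ω)]
    congr 1
    convert Fintype.sum_equiv (Equiv.mulLeft v')
      (fun x : C => f (v * x) * conj ((η : C → ℂ) x))
      (fun x : C => conj ω * (f x * conj ((η : C → ℂ) x))) fun x => ?_ using 1
    show f (v * x) * conj ((η : C → ℂ) x) = conj ω * (f ((v' * x : C) : G) * conj ((η : C → ℂ) (v' * x)))
    rw [Subgroup.coe_mul, show ((v' : C) : G) = v from rfl, ← mul_left_comm, ← map_mul, hω, div_mul_eq_mul_div,
      ← BlocksNormal.apply_mul_eq hG' η (Subgroup.inv_mem _ (Subgroup.mem_zpowers v'))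
        (mem_centralizer_zpowers_iff.2 (Subtype.ext (hv ((v' * x : C) : G) (v' * x).2).eq)),
      inv_mul_cancel_left]
  rw [hval]
  refine IsIntegral.mul (IsIntegral.map (starRingEnd ℂ).toIntAlgHom ?_) isIntegral_algebraMap
  have hc : Subgroup.centralizer ({v'⁻¹} : Set C) = ⊤ := eq_top_iff.2 fun x _ =>
    Subgroup.mem_centralizer_iff.2 fun y hy => by
      rw [Set.mem_singleton_iff.1 hy]
      exact ((show Commute v' x from Subtype.ext (hv (x : G) x.2).eq).inv_left).eq
  have h' := isIntegral_centralChar η v'⁻¹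
  rw [centralChar, hc, Subgroup.index_top, Nat.cast_one, one_mul] at h'
  exact h'

end Cfsg.Agent.FreeInertial
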