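import Cfsg.Agent.Lib.Blocks.FreeInertial.Lattice
import Cfsg.Agent.Lib.BrauerPairs.InducedPairs

/-!
# Counts for an abelian defect group with free abelian inertial quotient

`main_of_prime`: the statement, granted that the rank is the inertial index when `|P|` is prime.
-/

set_option autoImplicit false
set_option linter.unusedSectionVars false

namespace Cfsg.Agent.FreeInertial

open Cfsg Cfsg.Agent.Blocks Cfsg.Agent.BrauerPairs

variable {G : Type*} [Group G] [Finite G] {p : ℕ} [Fact p.Prime] {M : Ideal AlgInt}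

theorem main_of_prime (hM : IsPModular p M) {B : Set (IrrCharacter G)} {P : Subgroup G}
    (hPD : IsDefectGroup p M B P) (hP1 : P ≠ ⊥) (hPab : ∀ x ∈ P, ∀ y ∈ P, x * y = y * x)
    {c : Set (IrrCharacter (Subgroup.centralizer (P : Set G)))}
    (hc : IsInducedBlock M (Subgroup.centralizer (P : Set G)) c B) {T : Subgroup G}
    (hT : ∀ g : G, g ∈ T ↔ (g ∈ Subgroup.normalizer (P : Set G) ∧
      StabilizesBlock (Subgroup.centralizer (P : Set G)) c g))
    {e : ℕ} (he : (Subgroup.centralizer (P : Set G)).relIndex T = e)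
    (hfree : ∀ g ∈ T, ∀ x ∈ P, x ≠ 1 → g * x * g⁻¹ = x → g ∈ Subgroup.centralizer (P : Set G))
    (hprime : e ≤ 3 → (Nat.card P).Prime → blockRank p B = e) :
    Nat.card B ≤ e + (Nat.card P - 1) / e ∧ blockRank p B ≤ e ∧
      (Nat.card B = e + (Nat.card P - 1) / e ↔ blockRank p B = e) ∧
      (e ≤ 3 → Nat.card B = e + (Nat.card P - 1) / e ∧ blockRank p B = e) := by
  have hPp := isPGroup_defectGroup hM hPD
  have hPC : P ≤ Subgroup.centralizer (P : Set G) := fun x hx =>
    Subgroup.mem_centralizer_iff.2 fun y hy => hPab y hy x hx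
  have hmax := isMaximal_of_isDefectGroup hM (isBrauerPairOf_of_induced hM hPp hPC hc) hPD
  obtain rfl : T = pairStab M P c := by
    ext y
    rw [hT y, mem_pairStab_iff hM hc.1]
  obtain ⟨⟨h1, h2, h3⟩, h4⟩ := counts hM hmax hPab hfree hP1 he
  refine ⟨h1, h2, h3, fun he3 => ?_⟩
  have hl : blockRank p B = e := (h4 he3).elim id fun h =>
    hprime he3 (by rcases h with h | h <;> rw [h] <;> norm_num)
  exact ⟨h3.2 hl, hl⟩

end Cfsg.Agent.FreeInertial
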