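import Cfsg.Agent.Lib.Star.Trace
import Cfsg.Agent.Lib.Star.Prim
import Cfsg.Agent.Lib.SecondMain.Rank
import Cfsg.Agent.Lib.Star.Twist

/-!
# Traces of idempotents supported in a subgroup

* `down`: restriction of an element of the local group algebra to a subgroup;
* `trace_vanish`: an idempotent has trace zero against a function vanishing on `p`-regular elements;
* `congr_sub`: only the Brauer image matters for the twisted trace inside a subgroup;
* `exists_lift`: idempotents supported in a subgroup lift with their symmetry;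
* `trace_section`: the twisted trace of an idempotent of a block of a section.
-/

set_option autoImplicit false
set_option synthInstance.maxHeartbeats 200000
set_option maxHeartbeats 1000000

open scoped ComplexConjugate IsMulCommutative
open Polynomial

namespace Cfsg.Agent.FreeInertial

open Cfsg Cfsg.Agent.Blocks Cfsg.Agent.BrauerPairs Cfsg.Agent.Star

variable {G : Type*} [Group G] [Finite G] {p : ℕ} {M : Ideal AlgInt} (hM : IsPModular p M)

/-- The restriction of an element of the local group algebra to a subgroup. -/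
noncomputable def down (H : Subgroup G) (a : Loc hM G) : Loc hM H :=
  MonoidAlgebra.ofCoeff (Finsupp.equivFunOnFinite.symm fun h : H => a.coeff (h : G))

theorem coeff_down (H : Subgroup G) (a : Loc hM G) (h : H) : (down hM H a).coeff h = a.coeff h := by
  simp [down]

theorem trL_def [Fintype G] (χ : G → ℂ) (a : Loc hM G) :
    trL hM χ a = ∑ n, (a.coeff n : ℂ) * χ n := by
  simp only [trL, tr_def, coeff_inc]

theorem trL_down {H : Subgroup G} {a : Loc hM G} (ha : SuppIn H a) (f : G → ℂ) :
    trL hM (fun h : H => f h) (down hM H a) = trL hM f a := by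
  classical
  have := Fintype.ofFinite G
  have := Fintype.ofFinite H
  rw [trL_def, trL_def]
  simp only [coeff_down]
  rw [← Finset.sum_filter_of_ne (s := (Finset.univ : Finset G)) (p := (· ∈ H))]
  · exact (Finset.sum_subtype _ (fun x => by simp) fun n : G => (a.coeff n : ℂ) * f n).symm
  · intro n _ hn
    by_contra hnH
    exact hn (by rw [ha n hnH, Subring.coe_zero, zero_mul])

theorem down_mul {H : Subgroup G} {a : Loc hM G} (ha : SuppIn H a) (b : Loc hM G) :
    down hM H (a * b) = down hM H a * down hM H b := by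
  classical
  have := Fintype.ofFinite G
  have := Fintype.ofFinite H
  ext h
  rw [coeff_down, MonoidAlgebra.coeff_mul_apply_left, Finsupp.sum_fintype _ _ (fun _ => by simp),
    MonoidAlgebra.coeff_mul_apply_left, Finsupp.sum_fintype _ _ (fun _ => by simp)]
  simp only [coeff_down, Subgroup.coe_mul, Subgroup.coe_inv]
  rw [← Finset.sum_filter_of_ne (s := (Finset.univ : Finset G)) (p := (· ∈ H))]
  · exact congrArg _ (Finset.sum_subtype _ (fun x => by simp)
      fun k : G => a.coeff k * b.coeff (k⁻¹ * (h : G)))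
  · intro k _ hk
    by_contra hkH
    exact hk (by rw [ha k hkH, zero_mul])

theorem fixed_down {H S : Subgroup G} {a : Loc hM G} (ha : Fixed S a) :
    Fixed (S.subgroupOf H) (down hM H a) := by
  intro u hu
  ext x
  rw [coeff_cj, coeff_down, coeff_down]
  have h := congrArg (fun w : Loc hM G => w.coeff (x : G)) (ha (u : G) hu)
  simp only [coeff_cj] at h
  exact congrArg Subtype.val h

theorem suppIn_one (H : Subgroup G) : SuppIn H (1 : Loc hM G) := by
  intro x hx
  rw [MonoidAlgebra.one_def, MonoidAlgebra.coeff_single, Finsupp.single_eq_of_ne]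
  rintro rfl
  exact hx H.one_mem

theorem suppIn_smul {H : Subgroup G} (r : locRing hM) {a : Loc hM G} (ha : SuppIn H a) :
    SuppIn H (r • a) := fun x hx => by
  simp [ha x hx]

theorem suppIn_add {H : Subgroup G} {a b : Loc hM G} (ha : SuppIn H a) (hb : SuppIn H b) :
    SuppIn H (a + b) := fun x hx => by
  simp [ha x hx, hb x hx]

theorem suppIn_sub {H : Subgroup G} {a b : Loc hM G} (ha : SuppIn H a) (hb : SuppIn H b) :
    SuppIn H (a - b) := fun x hx => by
  simp [ha x hx, hb x hx]

theorem suppIn_aeval {H : Subgroup G} {w : Loc hM G} (hw : SuppIn H w) (q : (locRing hM)[X]) :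
    SuppIn H (aeval w q) := by
  have := Fintype.ofFinite G
  induction q using Polynomial.induction_on' with
  | add a b ha hb => rw [map_add]; exact suppIn_add hM ha hb
  | monomial n a =>
    rw [aeval_monomial, ← Algebra.smul_def]
    refine suppIn_smul hM _ ?_
    induction n with
    | zero => rw [pow_zero]; exact suppIn_one hM H
    | succ n ih => rw [pow_succ]; exact ih.mul hw

/-- Idempotents supported in a subgroup lift. -/
theorem exists_lift {C P : Subgroup G} (hPC : ∀ u ∈ P, ∀ x ∈ C, u⁻¹ * x * u ∈ C)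
    {ε : Loc hM G} (hεs : SuppIn C ε) (hεf : Fixed P ε) (hεε : ε * ε = ε)
    {z : MonoidAlgebra (Res M) G} (hzs : SuppIn C z) (hzf : Fixed P z) (hzz : z * z = z)
    (hl : rd hM ε * z = z) (hr : z * rd hM ε = z) :
    ∃ L : Loc hM G, SuppIn C L ∧ Fixed P L ∧ L * L = L ∧ InCorner ε L ∧ rd hM L = z := by
  classical
  have := Fintype.ofFinite G
  let w0 : Loc hM G := MonoidAlgebra.ofCoeff (Finsupp.equivFunOnFinite.symm fun x =>
    if x ∈ C then (⟨unres (z.coeff x), memR_unres hM _⟩ : locRing hM) else 0)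
  have hw0c : ∀ x, w0.coeff x = if x ∈ C then (⟨unres (z.coeff x), memR_unres hM _⟩ : locRing hM)
      else 0 := fun x => by simp [w0]
  have hw0s : SuppIn C w0 := fun x hx => by rw [hw0c, if_neg hx]
  have hw0r : rd hM w0 = z := by
    ext x
    rw [coeff_rd, hw0c]
    split_ifs with hx
    · exact res_unres hM _
    · rw [Subring.coe_zero, res_zero hM, hzs x hx]
  have hw0f : Fixed P w0 := fun u hu => by
    ext x
    rw [coeff_cj, hw0c, hw0c]
    have hzu := congrArg (fun w : MonoidAlgebra (Res M) G => w.coeff x) (hzf u hu)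
    simp only [coeff_cj] at hzu
    by_cases hx : x ∈ C
    · rw [if_pos hx, if_pos (hPC u hu x hx)]
      show unres _ = unres _
      rw [hzu]
    · rw [if_neg hx, if_neg]
      intro h
      refine hx ?_
      have := hPC u⁻¹ (P.inv_mem hu) _ h
      simpa [mul_assoc] using this
  set w := ε * w0 * ε with hw
  have hws : SuppIn C w := (hεs.mul hw0s).mul hεs
  have hwf : Fixed P w := (hεf.mul hw0f).mul hεf
  have hwr : rd hM w = z := by rw [hw, map_mul, map_mul, hw0r, hl, hr]
  have hwc : InCorner ε w := InCorner.sandwich hεε w0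
  obtain ⟨q, m, h1, h2⟩ := exists_spectral hM w
  refine ⟨w * aeval w q, hws.mul (suppIn_aeval hM hws q), hwf.mul (fixed_aeval hM hwf q), h1,
    ⟨by rw [← mul_assoc, hwc.1], ?_⟩, ?_⟩
  · have hcom : Commute w (aeval w q) := by
      show w * aeval w q = aeval w q * w
      conv_lhs => arg 1; rw [← aeval_X (R := locRing hM) w]
      conv_rhs => arg 2; rw [← aeval_X (R := locRing hM) w]
      rw [← map_mul, ← map_mul, mul_comm]
    rw [hcom.eq, mul_assoc, hwc.2]
  · set π := w * aeval w q
    have hzp : z * (1 - rd hM π) = 0 := by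
      rw [hwr] at h2
      cases m with
      | zero => rw [pow_zero, one_mul] at h2; rw [h2, mul_zero]
      | succ m => rwa [IsIdempotentElem.pow_succ_eq m hzz] at h2
    rw [mul_sub, mul_one, sub_eq_zero] at hzp
    calc rd hM π = rd hM w * rd hM (aeval w q) := map_mul _ _ _
      _ = z * (z * rd hM (aeval w q)) := by rw [hwr, ← mul_assoc, hzz]
      _ = z * rd hM π := by rw [map_mul, hwr]
      _ = z := hzp.symm

variable [hp : Fact p.Prime]

/-- The class sums of an idempotent vanish at the `p`-singular elements. -/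
theorem sum_singular_zero [Fintype G] (L : Loc hM G) (hLL : L * L = L) {g : G}
    (hg : p ∣ orderOf g) : ∑ a, (L.coeff (a * g * a⁻¹) : ℂ) = 0 := by
  classical
  let d : G → ℂ := fun x => (L.coeff x : ℂ)
  have hdd : ∀ x, ∑ m, d m * d (m⁻¹ * x) = d x := fun x => by
    show _ = ((L.coeff x : locRing hM) : ℂ)
    conv_rhs => rw [← hLL]
    rw [MonoidAlgebra.coeff_mul_apply_left, Finsupp.sum_fintype _ _ (fun _ => zero_mul _)]
    push_cast
    rfl
  obtain ⟨s, u, rfl, hs, hu, ⟨j, hj⟩, huo⟩ := Transfer.exists_pPart_mul (p := p) g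
  have hup : ¬ p ∣ orderOf u := (hM.1.coprime_iff_not_dvd).mp huo.symm
  have hsu : Commute s u := by
    obtain ⟨i, hi⟩ := Subgroup.mem_zpowers_iff.mp hs
    obtain ⟨i', hi'⟩ := Subgroup.mem_zpowers_iff.mp hu
    have h := (Commute.refl (s * u)).zpow_zpow i i'
    rwa [hi, hi'] at h
  have hs1 : s ≠ 1 := fun h => hup (by rwa [h, one_mul] at hg)
  let Λ : Subgroup G := Subgroup.zpowers u
  haveI : NeZero (Monoid.exponent Λ : ℂ) :=
    ⟨Nat.cast_ne_zero.mpr Monoid.exponent_ne_zero_of_finite⟩
  have hΛ : ¬ p ∣ Nat.card Λ := by rwa [Nat.card_zpowers]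
  have hΛc : ∀ l : Λ, Commute s (l : G) := by
    intro l
    obtain ⟨i, hi⟩ := Subgroup.mem_zpowers_iff.mp l.2
    rw [← hi]
    exact hsu.zpow_right i
  let c : ℂ := (Nat.card Λ : ℂ)⁻¹
  have hval : ∀ (φ : Λ →* ℂˣ) (l : Λ), MemLocalRing M (φ l : ℂ) := by
    intro φ l
    have h1 : (φ l : ℂ) ^ Nat.card Λ = 1 := by
      rw [← Units.val_pow_eq_pow_val, ← map_pow, pow_card_eq_one', map_one, Units.val_one]
    exact memR_of_isIntegral hM (IsIntegral.of_pow Nat.card_pos (h1 ▸ isIntegral_one))
  let E : (Λ →* ℂˣ) → G → G → ℂ := fun φ a b => c * ∑ l : Λ, (φ l : ℂ) * d (a * l * b⁻¹)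
  have hidem : ∀ φ a b, ∑ m, E φ a m * E φ m b = E φ a b := by
    intro φ a b
    have hterm : ∀ l k : Λ, ∑ m, (d (a * l * m⁻¹) * d (m * k * b⁻¹)) = d (a * (l * k : Λ) * b⁻¹) := by
      intro l k
      rw [← hdd (a * (l * k : Λ) * b⁻¹)]
      refine Fintype.sum_bijective (fun m => a * l * m⁻¹)
        ((Group.mulLeft_bijective _).comp inv_involutive.bijective) _ _ fun m => ?_
      congr 2
      simp only [Subgroup.coe_mul]
      group
    calc ∑ m, E φ a m * E φ m b
        = c * (c * ∑ l : Λ, ∑ k : Λ, (φ (l * k) : ℂ) * d (a * (l * k : Λ) * b⁻¹)) := by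
          simp only [E, mul_mul_mul_comm c, ← Finset.mul_sum, ← mul_assoc c c]
          congr 1
          simp only [Finset.sum_mul_sum]
          rw [Finset.sum_comm]
          refine Finset.sum_congr rfl fun l _ => ?_
          rw [Finset.sum_comm]
          refine Finset.sum_congr rfl fun k _ => ?_
          rw [← hterm l k, Finset.mul_sum, map_mul, Units.val_mul]
          exact Finset.sum_congr rfl fun m _ => by ring
      _ = E φ a b := by
          simp only [E]
          congr 1
          have h1 : ∀ l : Λ, ∑ k : Λ, (φ (l * k) : ℂ) * d (a * (l * k : Λ) * b⁻¹)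
            = ∑ k : Λ, (φ k : ℂ) * d (a * k * b⁻¹) :=
            fun l => Fintype.sum_equiv (Equiv.mulLeft l) _ _ fun k => rfl
          simp only [h1, Finset.sum_const, nsmul_eq_mul, Finset.card_univ]
          rw [← mul_assoc, ← Nat.card_eq_fintype_card, inv_mul_cancel₀
            (Nat.cast_ne_zero.mpr Nat.card_pos.ne'), one_mul]
  have hR : ∀ φ a b, MemLocalRing M (E φ a b) := fun φ a b =>
    memR_mul hM (memR_natCast_inv hM hΛ) (memR_sum hM _ fun l _ => memR_mul hM (hval φ l) (L.coeff _).2)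
  let σ : Equiv.Perm G := Equiv.mulRight s
  have hinv : ∀ φ a b, E φ (σ a) (σ b) = E φ a b := by
    intro φ a b
    simp only [E, σ, Equiv.coe_mulRight]
    congr 1
    refine Finset.sum_congr rfl fun l _ => ?_
    congr 2
    calc a * s * (l : G) * (b * s)⁻¹ = a * (s * (l : G) * s⁻¹) * b⁻¹ := by group
      _ = a * (l : G) * b⁻¹ := by rw [(hΛc l).eq, mul_inv_cancel_right]
  have hfix : ∀ φ a b, σ a = a → σ b = b → MemLocalIdeal M (E φ a b) := fun φ a b ha _ =>
    absurd (mul_eq_left.1 (show a * s = a from ha)) hs1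
  have hσk : σ ^ p ^ j = 1 := by
    have hpow : ∀ (n : ℕ) (a : G), (σ ^ n) a = a * s ^ n := by
      intro n
      induction n with
      | zero => simp
      | succ n ih =>
        intro a
        rw [pow_succ', Equiv.Perm.mul_apply, ih, pow_succ]
        simp only [σ, Equiv.coe_mulRight, mul_assoc]
    exact Equiv.ext fun a => by rw [hpow, ← hj, pow_orderOf_eq_one, mul_one, Equiv.Perm.one_apply]
  have hzero : ∀ φ, ∑ a, E φ (σ a) a = 0 := fun φ =>
    SecondMain.sum_perm_eq_zero_of_fixed hM σ hσk (E φ) (hR φ) (hinv φ) (hidem φ) (hfix φ)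
  letI : Fintype (Λ →* ℂˣ) := by
    haveI : Finite (Λ →* ℂˣ) := Finite.of_equiv Λ
      (CommGroup.monoidHom_mulEquiv_of_hasEnoughRootsOfUnity Λ ℂ).some.symm.toEquiv
    exact Fintype.ofFinite _
  have horth : ∀ l : Λ, l ≠ 1 → ∑ φ : Λ →* ℂˣ, (φ l : ℂ) = 0 := by
    intro l hne
    obtain ⟨ψ, hψ⟩ := CommGroup.exists_apply_ne_one_of_hasEnoughRootsOfUnity Λ ℂ hne
    have h1 : ∑ φ : Λ →* ℂˣ, (φ l : ℂ) = (ψ l : ℂ) * ∑ φ : Λ →* ℂˣ, (φ l : ℂ) := by
      rw [Finset.mul_sum]
      exact (Fintype.sum_equiv (Equiv.mulLeft ψ) _ _ fun φ => by simp).symm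
    by_contra h0
    exact hψ (Units.val_eq_one.mp (mul_eq_right₀ h0 |>.mp h1.symm))
  let l₀ : Λ := ⟨u, Subgroup.mem_zpowers _⟩
  have h1 : ∑ φ : Λ →* ℂˣ, (φ l₀⁻¹ : ℂ) * ∑ a, E φ (σ a) a = 0 := by simp [hzero]
  simp only [E, ← Finset.mul_sum, mul_left_comm _ c] at h1
  have h2 := (mul_eq_zero.mp h1).resolve_left (inv_ne_zero (Nat.cast_ne_zero.mpr Nat.card_pos.ne'))
  simp only [Finset.mul_sum] at h2
  rw [Finset.sum_comm] at h2
  simp only [Finset.sum_comm (γ := Λ →* ℂˣ) (α := Λ)] at h2
  have h3 : ∀ a, ∑ l : Λ, ∑ φ : Λ →* ℂˣ, (φ l₀⁻¹ : ℂ) * ((φ l : ℂ) * d (σ a * l * a⁻¹))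
      = (Fintype.card (Λ →* ℂˣ) : ℂ) * d (a * (s * u) * a⁻¹) := by
    intro a
    rw [Finset.sum_eq_single l₀]
    · simp only [← mul_assoc ((_ : ℂˣ) : ℂ), ← Units.val_mul, ← map_mul, inv_mul_cancel, map_one,
        Units.val_one, one_mul, Finset.sum_const, nsmul_eq_mul, Finset.card_univ, l₀, σ,
        Equiv.coe_mulRight, mul_assoc]
    · intro l _ hne
      simp only [← mul_assoc ((_ : ℂˣ) : ℂ), ← Units.val_mul, ← map_mul, ← Finset.sum_mul]
      rw [horth _ (by rwa [ne_eq, inv_mul_eq_one, eq_comm]), zero_mul]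
    · simp
  simp only [h3, ← Finset.mul_sum] at h2
  exact (mul_eq_zero.mp h2).resolve_left (Nat.cast_ne_zero.mpr Fintype.card_ne_zero)

/-- An idempotent has trace zero against a function vanishing on the `p`-regular elements. -/
theorem trace_vanish {C : Subgroup G} {L : Loc hM G} (hLs : SuppIn C L) (hLL : L * L = L)
    {f : G → ℂ} (hf : ∀ h ∈ C, ∀ n, f (h * n * h⁻¹) = f n)
    (hreg : ∀ n ∈ C, ¬ p ∣ orderOf n → f n = 0) : trL hM f L = 0 := by
  classical
  have := Fintype.ofFinite G
  have := Fintype.ofFinite C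
  have hD : down hM C L * down hM C L = down hM C L := by rw [← down_mul hM hLs, hLL]
  rw [← trL_down hM hLs, trL_def]
  have key : (Nat.card C : ℂ) * ∑ n : C, ((down hM C L).coeff n : ℂ) * f n =
      ∑ n : C, (∑ a : C, ((down hM C L).coeff (a * n * a⁻¹) : ℂ)) * f n := by
    simp only [Finset.sum_mul]
    rw [Finset.sum_comm, Nat.card_eq_fintype_card, ← Finset.card_univ, ← nsmul_eq_mul,
      ← Finset.sum_const]
    refine Finset.sum_congr rfl fun a _ => ?_
    refine (Fintype.sum_equiv (MulAut.conj a).toEquiv _ _ fun n => ?_).symm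
    show _ = ((down hM C L).coeff (a * n * a⁻¹) : ℂ) * f ((a * n * a⁻¹ : C) : G)
    rw [Subgroup.coe_mul, Subgroup.coe_mul, Subgroup.coe_inv, hf (a : G) a.2]
  rw [Finset.sum_eq_zero (s := (Finset.univ : Finset C))
    (f := fun n => (∑ a : C, ((down hM C L).coeff (a * n * a⁻¹) : ℂ)) * f n)] at key
  · exact (mul_eq_zero.1 key).resolve_left (Nat.cast_ne_zero.2 Nat.card_pos.ne')
  · intro n _
    by_cases hn : p ∣ orderOf n
    · rw [sum_singular_zero hM _ hD hn, zero_mul]
    · rw [hreg n n.2 (by rwa [Subgroup.orderOf_coe]), mul_zero]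

/-- Only the Brauer image matters for the twisted trace inside a subgroup. -/
theorem congr_sub {H : Subgroup G} {u : G} (huH : u ∈ H) (hu : ∃ k, orderOf u = p ^ k)
    {f : G → ℂ} (hf : ∀ h ∈ H, ∀ n, f (h * n * h⁻¹) = f n) {X Y : Loc hM G}
    (hXs : SuppIn H X) (hYs : SuppIn H Y) (hXf : Fixed (Subgroup.zpowers u) X)
    (hYf : Fixed (Subgroup.zpowers u) Y) (hXX : X * X = X) (hYY : Y * Y = Y)
    (h : br (Subgroup.zpowers u) (rd hM X) = br (Subgroup.zpowers u) (rd hM Y)) :
    trL hM f (el hM u * X) = trL hM f (el hM u * Y) := by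
  classical
  have := Fintype.ofFinite G
  have := Fintype.ofFinite H
  set u' : H := ⟨u, huH⟩ with hu'
  have hz : Subgroup.zpowers u' = (Subgroup.zpowers u).subgroupOf H := by
    ext x
    rw [Subgroup.mem_subgroupOf, Subgroup.mem_zpowers_iff, Subgroup.mem_zpowers_iff]
    exact ⟨fun ⟨i, hi⟩ => ⟨i, by rw [← hi]; rfl⟩, fun ⟨i, hi⟩ => ⟨i, Subtype.ext hi⟩⟩
  have hu'o : ∃ k, orderOf u' = p ^ k := by
    obtain ⟨k, hk⟩ := hu
    exact ⟨k, by rw [← Subgroup.orderOf_coe]; exact hk⟩
  have hc : IsClassFunction H fun h : H => f h := fun n k => hf (k : G) k.2 n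
  have key : ∀ Z : Loc hM G, SuppIn H Z →
      trL hM (fun h : H => f h) (el hM u' * down hM H Z) = trL hM f (el hM u * Z) := by
    intro Z hZ
    rw [trL_el_mul, trL_el_mul]
    simp only [coeff_down]
    rw [← Finset.sum_filter_of_ne (s := (Finset.univ : Finset G)) (p := (· ∈ H))]
    · exact (Finset.sum_subtype _ (fun x => by simp)
        fun n : G => (Z.coeff n : ℂ) * f (u * n)).symm
    · intro n _ hn
      by_contra hnH
      exact hn (by rw [hZ n hnH, Subring.coe_zero, zero_mul])
  have hbr : br (Subgroup.zpowers u') (rd hM (down hM H X)) =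
      br (Subgroup.zpowers u') (rd hM (down hM H Y)) := by
    ext x
    have h' := congrArg (fun w : MonoidAlgebra (Res M) G => w.coeff (x : G)) h
    simp only [coeff_br, coeff_rd, coeff_down] at h' ⊢
    have e1 : x ∈ Subgroup.centralizer (Subgroup.zpowers u' : Set H) ↔
        (x : G) ∈ Subgroup.centralizer (Subgroup.zpowers u : Set G) := by
      rw [SecondMain.mem_centralizer_zpowers_iff, SecondMain.mem_centralizer_zpowers_iff]
      exact ⟨fun hc => congrArg Subtype.val hc.eq, fun hc => Subtype.ext hc.eq⟩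
    by_cases hx : (x : G) ∈ Subgroup.centralizer (Subgroup.zpowers u : Set G)
    · simpa [e1, hx] using h'
    · simp [e1, hx]
  rw [← key X hXs, ← key Y hYs]
  refine trL_el_eq_of_congr hM hc hu'o ?_ (by rw [← down_mul hM hXs, hXX]) ?_
    (by rw [← down_mul hM hYs, hYY]) hbr
  · rw [hz]; exact fixed_down hM hXf
  · rw [hz]; exact fixed_down hM hYf

/-- The trace of an idempotent only depends on its reduction. -/
theorem trace_congr {H : Subgroup G} {f : G → ℂ} (hf : ∀ h ∈ H, ∀ n, f (h * n * h⁻¹) = f n)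
    {X Y : Loc hM G} (hXs : SuppIn H X) (hYs : SuppIn H Y) (hXX : X * X = X) (hYY : Y * Y = Y)
    (h : rd hM X = rd hM Y) : trL hM f X = trL hM f Y := by
  have hel : el hM (1 : G) = 1 := MonoidAlgebra.one_def.symm
  have h1 : ∀ Z : Loc hM G, Fixed (Subgroup.zpowers (1 : G)) Z := fun Z u hu => by
    rw [Subgroup.zpowers_one_eq_bot, Subgroup.mem_bot] at hu
    rw [hu, cj_one]
  have := congr_sub hM (u := 1) H.one_mem ⟨0, by simp⟩ hf hXs hYs (h1 X) (h1 Y) hXX hYY (by rw [h])
  rwa [hel, one_mul, one_mul] at this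

/-- The exact idempotent of a block of a subgroup. -/
theorem exists_exact {C : Subgroup G} {b : Set (IrrCharacter C)} (hb : IsPBlock M b) :
    ∃ E : Loc hM G, (∀ x, ((E.coeff x : locRing hM) : ℂ) = subgroupBlockCoeff C b x) ∧
      SuppIn C E ∧ Fixed C E ∧ E * E = E ∧ rd hM E = bIdem M C b := by
  classical
  have := Fintype.ofFinite G
  let E : Loc hM G := MonoidAlgebra.ofCoeff (Finsupp.equivFunOnFinite.symm fun x =>
    (⟨subgroupBlockCoeff C b x, memR_subgroupBlockCoeff hM hb x⟩ : locRing hM))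
  have hEc : ∀ x, ((E.coeff x : locRing hM) : ℂ) = subgroupBlockCoeff C b x := fun x => by simp [E]
  refine ⟨E, hEc, fun x hx => Subtype.ext (by rw [hEc, subgroupBlockCoeff, dif_neg hx]; rfl),
    fun c hc => ?_, ?_, ?_⟩
  · ext x
    rw [coeff_cj]
    simp only [hEc]
    exact subgroupBlockCoeff_conj_of_fixed hM hb (Subgroup.le_normalizer hc)
      ((bIdem_central _ b).2 c hc) x
  · ext x
    rw [MonoidAlgebra.coeff_mul_apply_left, Finsupp.sum_fintype _ _ (fun _ => by simp)]
    push_cast
    simp only [hEc]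
    by_cases hx : x ∈ C
    · have := Fintype.ofFinite C
      have hconv : conv (blockCoeff b) (blockCoeff b) = blockCoeff b := by
        simp only [blockCoeff_eq_ofOmega, ← ofOmega_mul, blockInd_mul_self]
      rw [show subgroupBlockCoeff C b x = blockCoeff b ⟨x, hx⟩ from dif_pos hx]
      conv_rhs => rw [← hconv, conv_eq_sum]
      rw [← Finset.sum_filter_add_sum_filter_not Finset.univ (· ∈ C),
        Finset.sum_eq_zero (s := Finset.univ.filter fun k => ¬ k ∈ C) fun k hk => by
          rw [subgroupBlockCoeff, dif_neg (Finset.mem_filter.1 hk).2, zero_mul],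
        add_zero, Finset.sum_subtype (p := (· ∈ C)) _ (fun k => by simp)]
      refine Finset.sum_congr rfl fun k _ => ?_
      rw [subgroupBlockCoeff, dif_pos k.2, subgroupBlockCoeff,
        dif_pos (C.mul_mem (C.inv_mem k.2) hx)]
      rfl
    · rw [show subgroupBlockCoeff C b x = 0 from dif_neg hx]
      refine Finset.sum_eq_zero fun k _ => ?_
      by_cases hk : k ∈ C
      · rw [show subgroupBlockCoeff C b (k⁻¹ * x) = 0 from
          dif_neg fun h => hx (by simpa using C.mul_mem hk h), mul_zero]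
      · rw [show subgroupBlockCoeff C b k = 0 from dif_neg hk, zero_mul]
  · ext x
    rw [coeff_rd, hEc, coeff_bIdem hM]

/-- An idempotent of a block is absorbed by the exact idempotent. -/
theorem mul_exact [Fintype G] {C : Subgroup G} {b : Set (IrrCharacter C)} {E L : Loc hM G} (hEf : Fixed C E)
    (hEE : E * E = E) (hEr : rd hM E = bIdem M C b) (hLs : SuppIn C L) (hLL : L * L = L)
    (hLb : rd hM L * bIdem M C b = rd hM L) : L * E = L := by
  have hcom : E * L = L * E := hEf.commute hLs
  have hidem : (L - L * E) * (L - L * E) = L - L * E := by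
    have h1 : L * E * L = L * E := by rw [mul_assoc, hcom, ← mul_assoc, hLL]
    have h2 : L * E * (L * E) = L * E := by rw [← mul_assoc, h1, mul_assoc, hEE]
    rw [mul_sub, sub_mul, sub_mul, hLL, h1, ← mul_assoc, hLL, h2, sub_self, sub_zero]
  have h0 := eq_zero_of_rd_eq_zero hM hidem (by rw [map_sub, map_mul, hEr, hLb, sub_self])
  exact (sub_eq_zero.1 h0).symm

/-- The twisted trace of an idempotent in a block of a section. -/
theorem trace_section [Fintype G] {C : Subgroup G} {b : Set (IrrCharacter C)} (hb : IsPBlock M b) {L : Loc hM G}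
    (hLs : SuppIn C L) (hLL : L * L = L) (hLb : rd hM L * bIdem M C b = rd hM L) {f : G → ℂ}
    (hf : ∀ h ∈ C, ∀ n, f (h * n * h⁻¹) = f n) {v : G} (hv : ∀ h ∈ C, Commute v h) {ψ : G → ℂ}
    (hψ : ∀ h ∈ C, ∀ n, ψ (h * n * h⁻¹) = ψ n) {d : ℂ}
    (hd : ∀ m ∈ C, ¬ p ∣ orderOf m →
      ∑ k, subgroupBlockCoeff C b k * f (k * (v * m)) = d * ψ m) :
    trL hM f (el hM v * L) = d * trL hM ψ L := by
  classical
  obtain ⟨E, hEc, hEs, hEf, hEE, hEr⟩ := exists_exact hM hb
  have hLE := mul_exact hM hEf hEE hEr hLs hLL hLb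
  have hcom : E * L = L * E := hEf.commute hLs
  set F : G → ℂ := fun m => ∑ k, subgroupBlockCoeff C b k * f (k * (v * m)) with hF
  have hstep : trL hM f (el hM v * L) = trL hM F L := by
    have hLE' : E * L = L := hcom.trans hLE
    have hmul : ∀ n, (((E * L).coeff n : locRing hM) : ℂ) =
        ∑ k, subgroupBlockCoeff C b k * (L.coeff (k⁻¹ * n) : ℂ) := by
      intro n
      rw [MonoidAlgebra.coeff_mul_apply_left, Finsupp.sum_fintype _ _ (fun _ => by simp)]
      push_cast
      simp only [hEc]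
    conv_lhs => rw [← hLE']
    rw [trL_el_mul, trL_def]
    simp only [hmul, hF, Finset.sum_mul, Finset.mul_sum]
    rw [Finset.sum_comm]
    conv_rhs => rw [Finset.sum_comm]
    refine Finset.sum_congr rfl fun k _ => ?_
    refine Fintype.sum_equiv (Equiv.mulLeft k⁻¹) _ _ fun n => ?_
    simp only [Equiv.coe_mulLeft]
    by_cases hk : k ∈ C
    · rw [← mul_assoc k v, ← (hv k hk).eq, mul_assoc v k, mul_inv_cancel_left]
      ring
    · rw [show subgroupBlockCoeff C b k = 0 from dif_neg hk]
      ring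
  have hFinv : ∀ h ∈ C, ∀ n, F (h * n * h⁻¹) = F n := by
    intro h hh n
    simp only [hF]
    refine (Fintype.sum_equiv (MulAut.conj h).toEquiv _ _ fun k => ?_).symm
    show _ = subgroupBlockCoeff C b (h * k * h⁻¹) * f (h * k * h⁻¹ * (v * (h * n * h⁻¹)))
    congr 1
    · have := subgroupBlockCoeff_conj_of_fixed hM hb (g := h⁻¹) (Subgroup.le_normalizer (C.inv_mem hh))
        ((bIdem_central _ b).2 _ (C.inv_mem hh)) k
      rw [inv_inv] at this
      exact this.symm
    · rw [← hf h hh (k * (v * n))]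
      congr 1
      have := (hv h hh).eq
      calc h * (k * (v * n)) * h⁻¹ = h * k * h⁻¹ * (h * v * n * h⁻¹) := by group
        _ = h * k * h⁻¹ * (v * h * n * h⁻¹) := by rw [this]
        _ = _ := by group
  have hz := trace_vanish hM hLs hLL (f := fun m => F m - d * ψ m)
    (fun h hh n => by simp only [hFinv h hh n, hψ h hh n])
    (fun n hn hreg => sub_eq_zero.2 (hd n hn hreg))
  rw [hstep, ← sub_eq_zero, ← hz, trL_def, trL_def, trL_def, Finset.mul_sum, ← Finset.sum_sub_distrib]
  exact Finset.sum_congr rfl fun n _ => by ring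

end Cfsg.Agent.FreeInertial
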