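import Cfsg.Agent.Lib.Blocks.FreeInertial.Units
import Cfsg.Agent.Lib.Blocks.FreeInertial.Trace
import Cfsg.Agent.Lib.Blocks.FreeInertial.Local
import Cfsg.Agent.Lib.Star.Local
import Cfsg.Agent.Lib.Blocks.HeightZeroValues

/-!
# Multiplicities of primitive idempotents at the pairs below a maximal pair

* `IsLiftAt`, `mult`: the trace of a lift of the Brauer image against the character of the block;
* `exists_source`: a primitive idempotent at `(P, c)` with multiplicity prime to `p`;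
* `th_conj`, `mult_conj`, `dec_conj`: transport under the inertial stabiliser.
-/

set_option autoImplicit false
set_option maxHeartbeats 1000000
set_option synthInstance.maxHeartbeats 200000
set_option linter.unusedSectionVars false

open scoped ComplexConjugate IsMulCommutative

namespace Cfsg.Agent.FreeInertial

open Cfsg Cfsg.Agent.Blocks Cfsg.Agent.BrauerPairs Cfsg.Agent.Star Cfsg.Agent.SecondMain

variable {G : Type*} [Group G] [Finite G] {p : ℕ} [Fact p.Prime] {M : Ideal AlgInt}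
  (hM : IsPModular p M) {B : Set (IrrCharacter G)} {P : Subgroup G}
  {c : Set (IrrCharacter (Subgroup.centralizer (P : Set G)))}

/-- A lift of the Brauer image of `i` at `Q`. -/
def IsLiftAt (P Q : Subgroup G) (i L : Loc hM G) : Prop :=
  SuppIn (Subgroup.centralizer (Q : Set G)) L ∧ Fixed P L ∧ L * L = L ∧ rd hM L = br Q (rd hM i)

open scoped Classical in
/-- The multiplicity of the block at `Q` in `i`. -/
noncomputable def mult (P : Subgroup G) (c : Set (IrrCharacter (Subgroup.centralizer (P : Set G))))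
    (Q : Subgroup G) (i : Loc hM G) : ℤ :=
  if h : ∃ n : ℤ, ∀ L, IsLiftAt hM P Q i L → trL hM (th p M P c Q) L = n then h.choose else 0

theorem trL_add (f : G → ℂ) (a b : Loc hM G) : trL hM f (a + b) = trL hM f a + trL hM f b := by
  simp only [trL, map_add, tr_add]

theorem trL_sub (f : G → ℂ) (a b : Loc hM G) : trL hM f (a - b) = trL hM f a - trL hM f b := by
  rw [eq_sub_iff_add_eq, ← trL_add, sub_add_cancel]

theorem br_idem {Q : Subgroup G} (hQ : IsPGroup p Q) {i j : Loc hM G} (hi : Fixed Q i)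
    (hj : Fixed Q j) : br Q (rd hM (i * j)) = br Q (rd hM i) * br Q (rd hM j) := by
  have := res_charP hM
  have := Fintype.ofFinite G
  rw [map_mul, br_mul (p := p) hQ (fixed_rd hM hi) (fixed_rd hM hj)]

theorem exists_liftAt (hP : IsPGroup p P) (hab : ∀ x ∈ P, ∀ y ∈ P, x * y = y * x)
    {Q : Subgroup G} (hQP : Q ≤ P) {i : Loc hM G} (hi : Fixed P i) (hii : i * i = i) :
    ∃ L, IsLiftAt hM P Q i L := by
  have hPC : P ≤ Subgroup.centralizer (Q : Set G) := LocalRank.le_centralizer hab hQP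
  obtain ⟨L, h1, h2, h3, -, h5⟩ := exists_lift hM (C := Subgroup.centralizer (Q : Set G)) (P := P)
    (fun u hu x hx => mul_mem (mul_mem (inv_mem (hPC hu)) hx) (hPC hu))
    (ε := 1) (suppIn_one hM _) Fixed.one (one_mul _)
    (z := br Q (rd hM i)) (suppIn_br Q _) ((fixed_rd hM hi).br (le_normalizer_of_le hab hQP))
    (by rw [← br_idem hM (hP.to_le hQP) (hi.mono hQP) (hi.mono hQP), hii])
    (by rw [map_one, one_mul]) (by rw [map_one, mul_one])
  exact ⟨L, h1, h2, h3, h5⟩

theorem mult_spec (hmax : IsMaximalBrauerPair p M B P c)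
    (hab : ∀ x ∈ P, ∀ y ∈ P, x * y = y * x) {Q : Subgroup G} (hQP : Q ≤ P) {i L : Loc hM G}
    (hi : Fixed P i) (hii : i * i = i) (hL : IsLiftAt hM P Q i L) :
    trL hM (th p M P c Q) L = mult hM P c Q i := by
  obtain ⟨θ, -, hth⟩ := exists_th hM hmax hQP
  have hex : ∃ n : ℤ, ∀ L, IsLiftAt hM P Q i L → trL hM (th p M P c Q) L = n := by
    obtain ⟨L0, h0⟩ := exists_liftAt hM hmax.1.1.1 hab hQP hi hii
    obtain ⟨n, hn⟩ := exists_nat_tr (Char.IsIrrCharacter.isCharacter θ.2)
      (z := inc hM (down hM (Subgroup.centralizer (Q : Set G)) L0))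
      (by rw [← map_mul, ← down_mul hM h0.1, h0.2.2.1])
    refine ⟨n, fun L hL => ?_⟩
    rw [trace_congr hM (th_inv hM hmax hQP) hL.1 h0.1 hL.2.2.1 h0.2.2.1
      (hL.2.2.2.trans h0.2.2.2.symm), ← trL_down hM h0.1, Int.cast_natCast, ← hn, trL]
    congr 1
    funext h
    rw [hth, ext_coe]
  rw [mult, dif_pos hex]
  exact hex.choose_spec L hL

theorem mult_zero (hmax : IsMaximalBrauerPair p M B P c)
    (hab : ∀ x ∈ P, ∀ y ∈ P, x * y = y * x) {Q : Subgroup G} (hQP : Q ≤ P) :
    mult hM P c Q 0 = 0 := by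
  have h0 : IsLiftAt hM P Q 0 0 :=
    ⟨SuppIn.zero, Star.fixed_zero, mul_zero _, by rw [map_zero, br_zero]⟩
  have h := mult_spec hM hmax hab hQP Star.fixed_zero (mul_zero _) h0
  rw [trL, map_zero, tr_zero] at h
  exact_mod_cast h.symm

theorem mult_add (hmax : IsMaximalBrauerPair p M B P c)
    (hab : ∀ x ∈ P, ∀ y ∈ P, x * y = y * x) {Q : Subgroup G} (hQP : Q ≤ P) {i j : Loc hM G}
    (hi : Fixed P i) (hii : i * i = i) (hj : Fixed P j) (hjj : j * j = j) (hij : i * j = 0)
    (hji : j * i = 0) : mult hM P c Q (i + j) = mult hM P c Q i + mult hM P c Q j := by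
  have hs : (i + j) * (i + j) = i + j := by
    rw [add_mul, mul_add, mul_add, hii, hij, hji, hjj, add_zero, zero_add]
  have hQ : IsPGroup p Q := hmax.1.1.1.to_le hQP
  have hsQ : Fixed Q (i + j) := (hi.add hj).mono hQP
  obtain ⟨L, hL⟩ := exists_liftAt hM hmax.1.1.1 hab hQP (hi.add hj) hs
  have hPC : P ≤ Subgroup.centralizer (Q : Set G) := LocalRank.le_centralizer hab hQP
  obtain ⟨L', h1, h2, h3, h4, h5⟩ := exists_lift hM
    (fun u hu x hx => mul_mem (mul_mem (inv_mem (hPC hu)) hx) (hPC hu))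
    hL.1 hL.2.1 hL.2.2.1 (z := br Q (rd hM j)) (suppIn_br Q _)
    ((fixed_rd hM hj).br (le_normalizer_of_le hab hQP))
    (by rw [← br_idem hM hQ (hj.mono hQP) (hj.mono hQP), hjj])
    (by rw [hL.2.2.2, ← br_idem hM hQ hsQ (hj.mono hQP), add_mul, hij, hjj, zero_add])
    (by rw [hL.2.2.2, ← br_idem hM hQ (hj.mono hQP) hsQ, mul_add, hji, hjj, zero_add])
  have hi' : IsLiftAt hM P Q i (L - L') := by
    refine ⟨suppIn_sub hM hL.1 h1, fixed_sub hL.2.1 h2, ?_, ?_⟩
    · rw [mul_sub, sub_mul, sub_mul, hL.2.2.1, h4.1, h4.2, h3, sub_self, sub_zero]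
    · rw [map_sub, hL.2.2.2, h5, map_add, br_add, add_sub_cancel_right]
  have h := mult_spec hM hmax hab hQP (hi.add hj) hs hL
  rw [← sub_add_cancel L L', trL_add, mult_spec hM hmax hab hQP hi hii hi',
    mult_spec hM hmax hab hQP hj hjj ⟨h1, h2, h3, h5⟩] at h
  exact_mod_cast h.symm

open scoped Classical in
theorem mult_sum (hmax : IsMaximalBrauerPair p M B P c)
    (hab : ∀ x ∈ P, ∀ y ∈ P, x * y = y * x) {Q : Subgroup G} (hQP : Q ≤ P)
    (s : Finset (Loc hM G)) (hs : ∀ j ∈ s, Fixed P j ∧ j * j = j)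
    (ho : ∀ j ∈ s, ∀ j' ∈ s, j ≠ j' → j * j' = 0) :
    mult hM P c Q (∑ j ∈ s, j) = ∑ j ∈ s, mult hM P c Q j ∧
      Fixed P (∑ j ∈ s, j) ∧ (∑ j ∈ s, j) * (∑ j ∈ s, j) = ∑ j ∈ s, j := by
  induction s using Finset.induction_on with
  | empty => simpa using ⟨mult_zero hM hmax hab hQP, Star.fixed_zero⟩
  | insert a s ha ih =>
    obtain ⟨h1, h2, h3⟩ := ih (fun j hj => hs j (Finset.mem_insert_of_mem hj))
      (fun j hj j' hj' => ho j (Finset.mem_insert_of_mem hj) j' (Finset.mem_insert_of_mem hj'))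
    obtain ⟨haf, haa⟩ := hs a (Finset.mem_insert_self _ _)
    have hz1 : a * ∑ j ∈ s, j = 0 := by
      rw [Finset.mul_sum]
      exact Finset.sum_eq_zero fun j hj => ho a (Finset.mem_insert_self _ _) j
        (Finset.mem_insert_of_mem hj) fun h => ha (h ▸ hj)
    have hz2 : (∑ j ∈ s, j) * a = 0 := by
      rw [Finset.sum_mul]
      exact Finset.sum_eq_zero fun j hj => ho j (Finset.mem_insert_of_mem hj) a
        (Finset.mem_insert_self _ _) fun h => ha (h ▸ hj)
    rw [Finset.sum_insert ha, Finset.sum_insert ha]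
    exact ⟨by rw [mult_add hM hmax hab hQP haf haa h2 h3 hz1 hz2, h1], haf.add h2,
      by rw [add_mul, mul_add, mul_add, haa, hz1, hz2, h3, add_zero, zero_add]⟩

/-- A primitive idempotent at the maximal pair. -/
def IsSource (P : Subgroup G) (c : Set (IrrCharacter (Subgroup.centralizer (P : Set G))))
    (i : Loc hM G) : Prop :=
  IsPrim P i ∧ br P (rd hM i) * cb M P c ≠ 0

/-- Single block property. -/
theorem br_mul_blk (hmax : IsMaximalBrauerPair p M B P c) {i : Loc hM G}
    (hi : IsSource hM P c i) {Q : Subgroup G} (hQP : Q ≤ P) :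
    br Q (rd hM i) * cb M Q (blk p M P c Q) = br Q (rd hM i) := by
  classical
  obtain ⟨hf, -⟩ := blk_spec hM hmax hQP
  conv_rhs => rw [← mul_one (br Q (rd hM i)), ← sum_bIdem hM (Subgroup.centralizer (Q : Set G)),
    Finset.mul_sum]
  rw [Finset.sum_eq_single_of_mem (blk p M P c Q) (mem_blocks.2 hf)]
  intro g hg hne
  by_contra h
  exact hne (blk_eq hM hmax hQP
    (subpairLE_of_br_ne_zero hM hmax.1.1.1 hi.1 hmax.1.1.2 hi.2 hQP (mem_blocks.1 hg) h))

/-- The exact idempotent acts as the identity on the characters of its block. -/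
theorem trL_exact_mul [Fintype G] {C : Subgroup G} {b : Set (IrrCharacter C)} {θ : IrrCharacter C}
    (hθ : θ ∈ b) {E L : Loc hM G}
    (hEc : ∀ x, ((E.coeff x : locRing hM) : ℂ) = subgroupBlockCoeff C b x) (hLs : SuppIn C L) :
    trL hM (ext C (θ : C → ℂ)) (E * L) = trL hM (ext C (θ : C → ℂ)) L := by
  classical
  have := Fintype.ofFinite C
  have := Fintype.ofFinite (IrrCharacter C)
  set f := ext C (θ : C → ℂ) with hf
  have hkey : ∀ m ∈ C, ∑ k, subgroupBlockCoeff C b k * f (k * m) = f m := by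
    intro m hm
    have h := blockPart_eq_sum b (θ := fun x : C => f (x : G)) (fun x h => by
      show f (((h * x * h⁻¹ : C) : G)) = f (x : G)
      rw [hf, ext_coe, ext_coe]
      exact irr_class θ x h) (⟨m, hm⟩ : C)
    have hbp : blockPart b (fun x : C => f (x : G)) ⟨m, hm⟩ = f m := by
      rw [show (fun x : C => f (x : G)) = (θ : C → ℂ) from funext fun x => ext_coe C _ x,
        blockPart_apply, finsum_mem_eq_toFinset_sum,
        Finset.sum_eq_single_of_mem θ (Set.mem_toFinset.2 hθ)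
          (fun η _ hne => by rw [Char.classInner_irr_of_ne θ.2 η.2
            (fun h => hne (Subtype.ext h.symm)), zero_mul]),
        Char.classInner_irr_self θ.2, one_mul]
      exact (ext_coe C _ ⟨m, hm⟩).symm
    rw [hbp] at h
    rw [h, ← Finset.sum_filter_of_ne (s := (Finset.univ : Finset G)) (p := (· ∈ C))]
    · rw [Finset.sum_subtype (p := (· ∈ C)) (Finset.univ.filter (· ∈ C)) (fun x => by simp)
        fun k => subgroupBlockCoeff C b k * f (k * m)]
      refine Finset.sum_congr rfl fun k _ => ?_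
      rw [subgroupBlockCoeff, dif_pos k.2]
      rfl
    · intro k _ hk
      by_contra hkC
      exact hk (by rw [subgroupBlockCoeff, dif_neg hkC, zero_mul])
  have hmul : ∀ n, (((E * L).coeff n : locRing hM) : ℂ) =
      ∑ k, subgroupBlockCoeff C b k * (L.coeff (k⁻¹ * n) : ℂ) := by
    intro n
    rw [MonoidAlgebra.coeff_mul_apply_left, Finsupp.sum_fintype _ _ (fun _ => by simp)]
    push_cast
    simp only [hEc]
  rw [trL_def, trL_def]
  simp only [hmul, Finset.sum_mul]
  rw [Finset.sum_comm]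
  have : ∀ k, ∑ n, subgroupBlockCoeff C b k * (L.coeff (k⁻¹ * n) : ℂ) * f n =
      ∑ m, (L.coeff m : ℂ) * (subgroupBlockCoeff C b k * f (k * m)) := fun k =>
    (Fintype.sum_equiv (Equiv.mulLeft k) _ _ fun m => by
      simp only [Equiv.coe_mulLeft, inv_mul_cancel_left]; ring).symm
  simp only [this]
  rw [Finset.sum_comm]
  refine Finset.sum_congr rfl fun m _ => ?_
  rw [← Finset.mul_sum]
  by_cases hm : m ∈ C
  · rw [hkey m hm]
  · rw [hLs m hm, Subring.coe_zero, zero_mul, zero_mul]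

open scoped Classical in
/-- A source with multiplicity prime to `p`. -/
theorem exists_source (hmax : IsMaximalBrauerPair p M B P c)
    (hab : ∀ x ∈ P, ∀ y ∈ P, x * y = y * x) (hfree : Free M P c) (hP1 : P ≠ ⊥) :
    ∃ i, IsSource hM P c i ∧ ¬ (p : ℤ) ∣ mult hM P c P i := by
  have := Fintype.ofFinite G
  obtain ⟨θ, hθ, hth⟩ := exists_th hM hmax le_rfl
  obtain ⟨hf, -⟩ := blk_spec hM hmax le_rfl
  obtain ⟨-, hh0, -⟩ := local_summary hM hmax hab hfree le_rfl hP1
  obtain ⟨y, hy⟩ := exists_isDefectClass hM hf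
  obtain ⟨u, s, rfl, hu, hs, hus, -⟩ := exists_parts (p := p) y
  have hns : ¬ MemLocalIdeal M ((θ : Subgroup.centralizer (P : Set G) → ℂ) s) := by
    have h1 := not_memI_apply_of_height_zero hM hf hy hθ (hh0 θ hθ)
      (x := 1) ⟨0, by simp⟩ (Commute.one_left _)
    rw [one_mul] at h1
    rwa [memI_iff_of_sub hM (memI_apply_mul_sub hM hu hus)] at h1
  set S : Subgroup G := Subgroup.zpowers (s : G) with hS
  haveI : NeZero (Monoid.exponent S : ℂ) :=
    ⟨Nat.cast_ne_zero.mpr Monoid.exponent_ne_zero_of_finite⟩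
  have hSC : S ≤ Subgroup.centralizer (P : Set G) := Subgroup.zpowers_le.2 s.2
  have hSp : ¬ p ∣ Nat.card S := by rwa [hS, Nat.card_zpowers, Subgroup.orderOf_coe]
  set f : S → ℂ := fun x => th p M P c P x with hfdef
  have hfθ : ∀ x : S, f x = (θ : Subgroup.centralizer (P : Set G) → ℂ) (Subgroup.inclusion hSC x) := fun x => by
    show th p M P c P ((Subgroup.inclusion hSC x : Subgroup.centralizer (P : Set G)) : G) = _
    rw [hth, ext_coe]
  have hfg : IsGeneralizedCharacter S f := by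
    rw [funext hfθ]
    exact Char.IsGeneralizedCharacter.comp_hom
      (Char.isGeneralizedCharacter_of_isCharacter (Char.IsIrrCharacter.isCharacter θ.2)) _
  obtain ⟨l, n, hn, hnp⟩ : ∃ l : S →* ℂˣ, ∃ n : ℤ, coef f l = n ∧ ¬ (p : ℤ) ∣ n := by
    by_contra hno
    push Not at hno
    have := Fintype.ofFinite (S →* ℂˣ)
    refine hns ?_
    have h := hfθ ⟨s, Subgroup.mem_zpowers _⟩
    rw [show Subgroup.inclusion hSC ⟨(s : G), Subgroup.mem_zpowers _⟩ = s from Subtype.ext rfl] at h
    rw [← h, coef_expand f]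
    refine memI_sum hM _ fun l _ => ?_
    obtain ⟨n, hn⟩ := coef_int hfg l
    rw [hn]
    exact memI_mul_right hM (memI_intCast hM (hno l n hn))
      (memR_of_isIntegral hM (Char.IsGeneralizedCharacter.isIntegral (gen_fn l) _))
  -- the idempotent of `l`
  have hval : ∀ x : S, MemLocalRing M ((Nat.card S : ℂ)⁻¹ * (l x⁻¹ : ℂ)) := fun x =>
    memR_mul hM (memR_natCast_inv hM hSp)
      (memR_of_isIntegral hM (Char.IsGeneralizedCharacter.isIntegral (gen_fn l) x⁻¹))
  let i0 : Loc hM G := MonoidAlgebra.ofCoeff (Finsupp.equivFunOnFinite.symm fun x =>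
    if h : x ∈ S then (⟨_, hval ⟨x, h⟩⟩ : locRing hM) else 0)
  have hic : ∀ x (h : x ∈ S), (i0.coeff x : ℂ) = (Nat.card S : ℂ)⁻¹ * (l (⟨x, h⟩ : S)⁻¹ : ℂ) :=
    fun x h => by simp [i0, h]
  have his : SuppIn S i0 := fun x hx => by simp [i0, hx]
  have hif : Fixed P i0 := by
    intro w hw
    ext x
    rw [coeff_cj]
    congr 1
    by_cases hx : x ∈ Subgroup.centralizer (P : Set G)
    · congr 1
      rw [mul_assoc, ← Subgroup.mem_centralizer_iff.1 hx w hw, inv_mul_cancel_left]
    · rw [his x fun h => hx (hSC h), his _ fun h => hx ?_]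
      have h' := Subgroup.mem_centralizer_iff.1 (hSC h) w hw
      have e : x = w⁻¹ * x * w := by
        calc x = w * (w⁻¹ * x * w) * w⁻¹ := by group
          _ = (w⁻¹ * x * w) * w * w⁻¹ := by rw [h']
          _ = _ := mul_inv_cancel_right _ _
      exact e ▸ hSC h
  have hii : i0 * i0 = i0 := by
    ext x
    rw [MonoidAlgebra.coeff_mul_apply_left, Finsupp.sum_fintype _ _ (fun _ => by simp)]
    push_cast
    rw [← Finset.sum_filter_of_ne (s := (Finset.univ : Finset G)) (p := (· ∈ S))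
      (fun k _ hk => by
        by_contra h
        exact hk (by rw [his k h, Subring.coe_zero, zero_mul]))]
    by_cases hx : x ∈ S
    · rw [Finset.sum_congr rfl fun k hk => show _ = (Nat.card S : ℂ)⁻¹ * (i0.coeff x : ℂ) from ?_,
        Finset.sum_const, nsmul_eq_mul]
      · have hcard : (Finset.univ.filter (· ∈ S)).card = Nat.card S := by
          rw [Nat.card_eq_fintype_card, Fintype.card_subtype]
        rw [hcard, ← mul_assoc, mul_inv_cancel₀ (Nat.cast_ne_zero.2 Nat.card_pos.ne'), one_mul]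
      · have hkS := (Finset.mem_filter.1 hk).2
        rw [hic k hkS, hic x hx, hic _ (S.mul_mem (S.inv_mem hkS) hx),
          show (⟨x, hx⟩ : S)⁻¹ = (⟨k⁻¹ * x, S.mul_mem (S.inv_mem hkS) hx⟩ : S)⁻¹ * ⟨k, hkS⟩⁻¹ from
            Subtype.ext (by simp), map_mul, Units.val_mul]
        ring
    · rw [his x hx, Subring.coe_zero]
      refine Finset.sum_eq_zero fun k hk => ?_
      rw [his (k⁻¹ * x) fun h => hx (by simpa using S.mul_mem (Finset.mem_filter.1 hk).2 h),
        Subring.coe_zero, mul_zero]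
  have hir : SuppIn (Subgroup.centralizer (P : Set G)) (rd hM i0) := fun x hx => by
    rw [coeff_rd, his x fun h => hx (hSC h), Subring.coe_zero, res_zero hM]
  have hlift : IsLiftAt hM P P i0 i0 :=
    ⟨his.mono hSC, hif, hii, (br_eq_self hir).symm⟩
  have hval0 : mult hM P c P i0 = n := by
    have h := mult_spec hM hmax hab le_rfl hif hii hlift
    rw [trL_def] at h
    have := Fintype.ofFinite S
    rw [← Finset.sum_filter_of_ne (s := (Finset.univ : Finset G)) (p := (· ∈ S))
      (fun k _ hk => by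
        by_contra h'
        exact hk (by rw [his k h', Subring.coe_zero, zero_mul])),
      Finset.sum_subtype (p := (· ∈ S)) _ (fun k => by simp)] at h
    rw [coef_eq] at hn
    have h' : ((mult hM P c P i0 : ℤ) : ℂ) = n := by
      rw [← h, ← hn, Finset.mul_sum]
      convert Finset.sum_congr rfl fun k _ => ?_ using 2
      rw [hic _ k.2]
      show _ * f k = _
      ring
    exact_mod_cast h'
  obtain ⟨J, hJ, hJo, hJs⟩ := exists_decomp hif hii
  obtain ⟨hsum, -, -⟩ := mult_sum hM hmax hab le_rfl J (fun j hj => ⟨(hJ j hj).1.1, (hJ j hj).1.2.1⟩) hJo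
  rw [hJs, hval0] at hsum
  obtain ⟨j, hj, hjp⟩ : ∃ j ∈ J, ¬ (p : ℤ) ∣ mult hM P c P j := by
    by_contra hno
    push Not at hno
    exact hnp (hsum ▸ Finset.dvd_sum hno)
  refine ⟨j, ⟨(hJ j hj).1, fun h0 => hjp ?_⟩, hjp⟩
  obtain ⟨L, hL⟩ := exists_liftAt hM hmax.1.1.1 hab le_rfl (hJ j hj).1.1 (hJ j hj).1.2.1
  obtain ⟨E, hEc, hEs, hEf, hEE, hEr⟩ := exists_exact hM hf
  have hcom : E * L = L * E := hEf.commute hL.1
  have hLE : L * E = 0 := by
    refine eq_zero_of_rd_eq_zero hM ?_ ?_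
    · rw [mul_assoc, ← mul_assoc E, hcom, mul_assoc L E E, hEE, ← mul_assoc, hL.2.2.1]
    · rw [map_mul, hL.2.2.2, hEr]
      have hb : bIdem M (Subgroup.centralizer (P : Set G)) (blk p M P c P) = cb M P c := by
        rw [blk_self hM hmax]
      rw [hb, h0]
  have h := mult_spec hM hmax hab le_rfl (hJ j hj).1.1 (hJ j hj).1.2.1 hL
  rw [hth, ← trL_exact_mul hM hθ hEc hL.1, hcom, hLE, trL, map_zero, tr_zero] at h
  rw [show mult hM P c P j = 0 by exact_mod_cast h.symm]
  exact dvd_zero _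

/-! ### Conjugation by the inertial stabiliser -/

theorem conjSub_le {t : G} (ht : t ∈ pairStab M P c) {Q : Subgroup G} (hQ : Q ≤ P) :
    conjSub t Q ≤ P :=
  (conjSub_mono t hQ).trans (conjSub_eq_self_iff.2 ht.1).le

theorem conjSub_ne_bot {t : G} {Q : Subgroup G} (hQ : Q ≠ ⊥) : conjSub t Q ≠ ⊥ := fun h =>
  hQ ((Subgroup.map_eq_bot_iff_of_injective _ (MulAut.conj t).injective).1 h)

include hM in
theorem exists_conj_th (hmax : IsMaximalBrauerPair p M B P c) {t : G} (ht : t ∈ pairStab M P c)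
    {Q : Subgroup G} (hQP : Q ≤ P) {θ : IrrCharacter (Subgroup.centralizer (Q : Set G))}
    (hθ : θ ∈ blk p M P c Q) :
    ∃ θ' ∈ blk p M P c (conjSub t Q),
      ∀ n, ext _ (θ' : Subgroup.centralizer ((conjSub t Q : Subgroup G) : Set G) → ℂ) (t * n * t⁻¹) =
        ext _ (θ : Subgroup.centralizer (Q : Set G) → ℂ) n := by
  obtain ⟨-, hle⟩ := blk_spec hM hmax hQP
  have hle' := subpairLE_conj hM hle t
  unfold SubpairLE at hle'
  rw [show (⟨conjSub t P, conjBlock P t c⟩ : BrauerPairIdx G) = conjIdx t ⟨P, c⟩ from rfl,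
    conjIdx_eq_self_of_mem_pairStab hM hmax.1.1.2 ht] at hle'
  have hblk := blk_eq hM hmax (conjSub_le ht hQP) hle'
  refine ⟨pullIrr (conjEquiv _ _ t (mem_centralizer_map_conj Q t)).symm θ, ?_, fun n => ?_⟩
  · rw [← hblk, conjBlock_eq_conjImg]
    exact ⟨θ, hθ, rfl⟩
  · by_cases hn : n ∈ Subgroup.centralizer (Q : Set G)
    · have hn' := (mem_centralizer_map_conj Q t n).1 hn
      rw [show t * n * t⁻¹ = ((⟨_, hn'⟩ : Subgroup.centralizer ((conjSub t Q : Subgroup G) : Set G)) : G)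
        from rfl, ext_coe, pullIrr_apply,
        show ext _ (θ : Subgroup.centralizer (Q : Set G) → ℂ) n = (θ : Subgroup.centralizer (Q : Set G) → ℂ) ⟨n, hn⟩
          from ext_coe _ _ ⟨n, hn⟩]
      refine congrArg (θ : Subgroup.centralizer (Q : Set G) → ℂ) (Subtype.ext ?_)
      show t⁻¹ * (t * n * t⁻¹) * t = n
      group
    · rw [ext_of_notMem _ hn, ext_of_notMem _ fun h => hn ((mem_centralizer_map_conj Q t n).2 h)]

include hM in
theorem th_conj (hmax : IsMaximalBrauerPair p M B P c)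
    (hab : ∀ x ∈ P, ∀ y ∈ P, x * y = y * x) (hfree : Free M P c) {t : G}
    (ht : t ∈ pairStab M P c) {Q : Subgroup G} (hQP : Q ≤ P) (hQ : Q ≠ ⊥) {m : G}
    (hm : m ∈ Subgroup.centralizer (Q : Set G)) (hreg : ¬ p ∣ orderOf m) :
    th p M P c (conjSub t Q) (t * m * t⁻¹) = th p M P c Q m := by
  obtain ⟨θ, hθ, hth⟩ := exists_th hM hmax hQP
  obtain ⟨θ', hθ', hθθ⟩ := exists_conj_th hM hmax ht hQP hθ
  have hm' := (mem_centralizer_map_conj Q t m).1 hm
  rw [hth, ← hθθ m]
  have h := th_reg hM hmax hab hfree (conjSub_le ht hQP) (conjSub_ne_bot hQ) hθ'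
    (m := ⟨_, hm'⟩) (by rwa [← Subgroup.orderOf_coe, Subtype.coe_mk, SecondMain.orderOf_conj])
  exact (((ext_coe _ _ ⟨_, hm'⟩).trans h)).symm

theorem source_conj (hmax : IsMaximalBrauerPair p M B P c) {t : G} (ht : t ∈ pairStab M P c)
    {i : Loc hM G} (hi : IsSource hM P c i) : IsSource hM P c (cj t i) := by
  refine ⟨hi.1.cj fun u => ?_, fun h0 => hi.2 ?_⟩
  · simpa [mul_assoc] using (Subgroup.mem_normalizer_iff.1 (inv_mem ht.1) u)
  · have e : cj t (br P (rd hM i) * cb M P c) = br P (rd hM (cj t i)) * cb M P c := by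
      rw [map_mul, cj_br, rd_cj, ht.2, conjSub_eq_self_iff.2 ht.1]
    rw [← e] at h0
    exact (cj t).injective (by rw [h0, map_zero])

theorem liftAt_conj {t : G} (ht : t ∈ pairStab M P c) {Q : Subgroup G} {i L : Loc hM G}
    (hL : IsLiftAt hM P Q i L) : IsLiftAt hM P (conjSub t Q) (cj t i) (cj t L) := by
  refine ⟨hL.1.cj_mem fun x hx => (mem_centralizer_map_conj Q t x).1 hx,
    fixed_conj hL.2.1 fun u hu => ?_, by rw [← map_mul, hL.2.2.1], ?_⟩
  · simpa [mul_assoc] using (Subgroup.mem_normalizer_iff.1 (inv_mem ht.1) u).1 hu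
  · rw [rd_cj, hL.2.2.2, cj_br, rd_cj]

theorem mult_conj (hmax : IsMaximalBrauerPair p M B P c)
    (hab : ∀ x ∈ P, ∀ y ∈ P, x * y = y * x) (hfree : Free M P c) {t : G}
    (ht : t ∈ pairStab M P c) {Q : Subgroup G} (hQP : Q ≤ P) (hQ : Q ≠ ⊥) {i : Loc hM G}
    (hi : Fixed P i) (hii : i * i = i) :
    mult hM P c (conjSub t Q) (cj t i) = mult hM P c Q i := by
  classical
  have := Fintype.ofFinite G
  obtain ⟨L, hL⟩ := exists_liftAt hM hmax.1.1.1 hab hQP hi hii
  have hti : Fixed P (cj t i) := fixed_conj hi fun u hu => by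
    simpa [mul_assoc] using (Subgroup.mem_normalizer_iff.1 (inv_mem ht.1) u).1 hu
  have h1 := mult_spec hM hmax hab (conjSub_le ht hQP) hti (by rw [← map_mul, hii])
    (liftAt_conj hM ht hL)
  have h2 := mult_spec hM hmax hab hQP hi hii hL
  set f := th p M P c (conjSub t Q) with hf
  have e : trL hM f (cj t L) = trL hM (fun n => f (t * n * t⁻¹)) L := by
    rw [trL_def, trL_def]
    refine (Fintype.sum_equiv (MulAut.conj t).toEquiv _ _ fun n => ?_).symm
    show _ = (((cj t L).coeff (t * n * t⁻¹) : locRing hM) : ℂ) * f (t * n * t⁻¹)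
    rw [coeff_cj, show t⁻¹ * (t * n * t⁻¹) * t = n by group]
  have hz := trace_vanish hM hL.1 hL.2.2.1 (f := fun n => f (t * n * t⁻¹) - th p M P c Q n)
    (fun h hh n => by
      rw [th_inv hM hmax hQP h hh n]
      congr 1
      rw [hf, show t * (h * n * h⁻¹) * t⁻¹ = (t * h * t⁻¹) * (t * n * t⁻¹) * (t * h * t⁻¹)⁻¹ by group]
      exact th_inv hM hmax (conjSub_le ht hQP) _ ((mem_centralizer_map_conj Q t h).1 hh) _)
    (fun n hn hreg => sub_eq_zero.2 (th_conj hM hmax hab hfree ht hQP hQ hn hreg))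
  have hsub : trL hM (fun n => f (t * n * t⁻¹) - th p M P c Q n) L =
      trL hM (fun n => f (t * n * t⁻¹)) L - trL hM (th p M P c Q) L := by
    simp only [trL_def, mul_sub, Finset.sum_sub_distrib]
  rw [hsub, ← e, h1, h2, sub_eq_zero] at hz
  exact_mod_cast hz

open scoped Classical in
include hM in
theorem dec_conj (hmax : IsMaximalBrauerPair p M B P c)
    (hab : ∀ x ∈ P, ∀ y ∈ P, x * y = y * x) (hfree : Free M P c) {t : G}
    (ht : t ∈ pairStab M P c) {Q : Subgroup G} (hQP : Q ≤ P) (hQ : Q ≠ ⊥) {f f' : G → ℂ}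
    (hff : ∀ n, f' (t * n * t⁻¹) = f n) (v : G) :
    dec p M P c (conjSub t Q) f' (t * v * t⁻¹) = dec p M P c Q f v := by
  have := Fintype.ofFinite (Subgroup.centralizer (Q : Set G))
  have := Fintype.ofFinite (Subgroup.centralizer ((conjSub t Q : Subgroup G) : Set G))
  set φ := conjEquiv _ _ t (mem_centralizer_map_conj Q t) with hφ
  rw [dec_def, dec_def, regInner_eq_sum, regInner_eq_sum, Nat.card_congr φ.toEquiv]
  congr 2
  symm
  refine Finset.sum_equiv φ.toEquiv (fun m => ?_) fun m hm => ?_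
  · rw [Finset.mem_filter, Finset.mem_filter, show orderOf (φ.toEquiv m) = orderOf m from φ.orderOf_eq m]
    simp only [Finset.mem_univ, true_and]
  · show _ = f' (t * v * t⁻¹ * (t * m * t⁻¹)) * conj (th p M P c (conjSub t Q) (t * m * t⁻¹))
    rw [th_conj hM hmax hab hfree ht hQP hQ m.2
      (by rw [Subgroup.orderOf_coe]; exact (Finset.mem_filter.1 hm).2), ← hff (v * m)]
    congr 2
    group

end Cfsg.Agent.FreeInertial
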