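import Cfsg.Agent.Lib.Blocks.FreeInertial.Source
import Cfsg.Agent.Lib.Blocks.KleinDefect

/-!
# Signs with integral coefficients

`exists_sign`: there are signs on `P`, invariant under the inertial stabiliser, such that for every
irreducible character the signed generalised decomposition numbers have integral coefficients.
-/

set_option autoImplicit false
set_option maxHeartbeats 1000000
set_option synthInstance.maxHeartbeats 200000
set_option linter.unusedSectionVars false

open scoped ComplexConjugate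

namespace Cfsg.Agent.FreeInertial

open Cfsg Cfsg.Agent.Blocks Cfsg.Agent.BrauerPairs Cfsg.Agent.Star Cfsg.Agent.SecondMain

variable {G : Type*} [Group G] [Finite G] {p : ℕ} [Fact p.Prime] {M : Ideal AlgInt}
  {B : Set (IrrCharacter G)} {P : Subgroup G}
  {c : Set (IrrCharacter (Subgroup.centralizer (P : Set G)))}

theorem conjSub_fix {k : G} (hk : k ∈ Subgroup.centralizer (P : Set G)) {S : Subgroup G}
    (hS : S ≤ P) : conjSub k S = S := by
  rw [conjSub_eq_self_iff]
  exact Subgroup.centralizer_le_normalizer _ (Subgroup.centralizer_le hS hk)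

/-- Conjugation of `P` by an element of its stabiliser. -/
def conjP {t : G} (ht : t ∈ pairStab M P c) : P →* P where
  toFun y := ⟨t * y * t⁻¹, (Subgroup.mem_normalizer_iff.1 ht.1 y).1 y.2⟩
  map_one' := Subtype.ext (by simp)
  map_mul' x y := Subtype.ext (by simp [mul_assoc])

theorem coe_conjP {t : G} (ht : t ∈ pairStab M P c) (y : P) : (conjP ht y : G) = t * y * t⁻¹ := rfl

theorem conjSub_zpowers' (t v : G) :
    conjSub t (Subgroup.zpowers v) = Subgroup.zpowers (t * v * t⁻¹) :=
  MonoidHom.map_zpowers (MulAut.conj t).toMonoidHom v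

theorem map_subtype_ne_bot {R : Subgroup P} (hR : R ≠ ⊥) : R.map P.subtype ≠ ⊥ := fun h =>
  hR ((Subgroup.map_eq_bot_iff_of_injective _ P.subtype_injective).1 h)

open scoped Classical in
/-- Signs making the coefficients integral. -/
theorem exists_sign [Fintype P] (hM : IsPModular p M) (hmax : IsMaximalBrauerPair p M B P c)
    (hab : ∀ x ∈ P, ∀ y ∈ P, x * y = y * x) (hfree : Free M P c) (hP1 : P ≠ ⊥) :
    ∃ σ : G → ℤ, (∀ v, σ v = 1 ∨ σ v = -1) ∧
      (∀ t ∈ pairStab M P c, ∀ v ∈ P, σ (t * v * t⁻¹) = σ v) ∧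
      ∀ (χ : IrrCharacter G) (l : P →* ℂˣ), ∃ n : ℤ, (Nat.card P : ℂ)⁻¹ *
        ∑ v ∈ Finset.univ.erase (1 : P), ((l v⁻¹ : ℂ) - 1) *
          ((σ (v : G) : ℂ) * dec p M P c (Subgroup.zpowers (v : G)) (χ : G → ℂ) v) = n := by
  have := Fintype.ofFinite G
  obtain ⟨i, hi, hip⟩ := exists_source hM hmax hab hfree hP1
  set K := (Subgroup.centralizer (P : Set G)).subgroupOf (pairStab M P c) with hK
  have := Fintype.ofFinite (pairStab M P c ⧸ K)
  let o : pairStab M P c ⧸ K → G := fun q => ((q.out : pairStab M P c) : G)⁻¹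
  have ho : ∀ q, o q ∈ pairStab M P c := fun q => inv_mem q.out.2
  let mt : Subgroup G → ℤ := fun S => ∑ q, mult hM P c (conjSub (o q) S) i
  have hinv : ∀ t ∈ pairStab M P c, ∀ S, S ≤ P → mt (conjSub t S) = mt S := by
    intro t ht S hS
    refine Fintype.sum_equiv (MulAction.toPerm ((⟨t, ht⟩ : pairStab M P c)⁻¹)) _ _ fun q => ?_
    set q' := MulAction.toPerm ((⟨t, ht⟩ : pairStab M P c)⁻¹) q with hq'
    have hk : ((⟨t, ht⟩ : pairStab M P c)⁻¹ * q.out)⁻¹ * q'.out ∈ K := by
      rw [← QuotientGroup.eq, QuotientGroup.out_eq', hq']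
      show _ = (⟨t, ht⟩ : pairStab M P c)⁻¹ • q
      conv_rhs => rw [← QuotientGroup.out_eq' q]
      rfl
    have hk' : ((((⟨t, ht⟩ : pairStab M P c)⁻¹ * q.out)⁻¹ * q'.out : pairStab M P c) : G)⁻¹ ∈
        Subgroup.centralizer (P : Set G) := inv_mem hk
    rw [conjSub_mul]
    conv_lhs => rw [← conjSub_fix hk' (conjSub_le (mul_mem (ho q) ht) hS)]
    rw [conjSub_mul]
    congr 2
    simp only [o, Subgroup.coe_mul, Subgroup.coe_inv]
    group
  have htop : mt P = (Fintype.card (pairStab M P c ⧸ K) : ℤ) * mult hM P c P i := by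
    simp only [mt]
    rw [Finset.sum_congr rfl fun q _ => by rw [conjSub_eq_self_iff.2 (ho q).1]]
    rw [Finset.sum_const, Finset.card_univ, nsmul_eq_mul]
  let := commP hab
  have : Nontrivial P := (Subgroup.nontrivial_iff_ne_bot P).2 hP1
  let m : Subgroup P → ℤ := fun S => mt (S.map P.subtype)
  have hm : ¬ (p : ℤ) ∣ m ⊤ := by
    show ¬ (p : ℤ) ∣ mt _
    rw [← MonoidHom.range_eq_map, Subgroup.range_subtype, htop]
    intro h
    rcases (Nat.prime_iff_prime_int.1 (Fact.out : p.Prime)).dvd_or_dvd h with h | h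
    · refine KleinDefect.stab_relIndex hM hmax hab ?_
      rw [← Nat.card_eq_fintype_card, Int.natCast_dvd_natCast] at h
      exact h
    · exact hip h
  have hF : ∀ R : Subgroup P, R ≠ ⊥ → ∃ F ω : P → ℂ, IsGeneralizedCharacter P F ∧
      (∀ y, IsIntegral ℤ (ω y)) ∧ (∀ y, ω y * conj (ω y) = 1) ∧
      ∀ y, F y = (m (R ⊔ Subgroup.zpowers y) : ℂ) * ω y := by
    intro R hR
    set R' := R.map P.subtype with hR'
    have hR'P : R' ≤ P := Subgroup.map_subtype_le R
    have hR'1 : R' ≠ ⊥ := map_subtype_ne_bot hR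
    obtain ⟨θ, hθ, -⟩ := exists_th hM hmax hR'P
    choose θq hθq hθqv using fun q => exists_conj_th hM hmax (ho q) hR'P hθ
    choose L hL using fun q =>
      exists_liftAt hM hmax.1.1.1 hab (conjSub_le (ho q) hR'P) hi.1.1 hi.1.2.1
    let f := ext (Subgroup.centralizer (R' : Set G))
      (θ : Subgroup.centralizer (R' : Set G) → ℂ)
    refine ⟨∑ q, fun y => trL hM
        (ext _ (θq q : Subgroup.centralizer ((conjSub (o q) R' : Subgroup G) : Set G) → ℂ))
        (el hM ((conjP (ho q) y : P) : G) * L q),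
      fun y => dec p M P c (R' ⊔ Subgroup.zpowers (y : G)) f y,
      Char.IsGeneralizedCharacter.sum _ fun q _ => Char.IsGeneralizedCharacter.comp_hom
        (gen_F hM hmax hab (conjSub_le (ho q) hR'P) (θq q) (hL q)) (conjP (ho q)),
      fun y => ?_, fun y => dec_norm hM hmax hab hfree hR'P hR'1 hθ y.2, fun y => ?_⟩
    · have hSP : R' ⊔ Subgroup.zpowers (y : G) ≤ P := sup_le hR'P (Subgroup.zpowers_le.2 y.2)
      have hle : Subgroup.centralizer ((R' ⊔ Subgroup.zpowers (y : G) : Subgroup G) : Set G) ≤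
          Subgroup.centralizer (R' : Set G) := Subgroup.centralizer_le (le_sup_left (a := R'))
      refine dec_integral hM hmax hab hfree hSP (ne_bot_of_le_ne_bot hR'1 le_sup_left) ?_
        (LocalRank.le_centralizer hab hSP y.2) fun h hh => SecondMain.mem_centralizer_zpowers_iff.1
          (Subgroup.centralizer_le (le_sup_right (a := R')) hh)
      convert Char.IsGeneralizedCharacter.comp_hom (Char.isGeneralizedCharacter_of_isCharacter
        (Char.IsIrrCharacter.isCharacter θ.2)) (Subgroup.inclusion hle) using 1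
      funext x
      exact ext_coe _ _ (Subgroup.inclusion hle x)
    · rw [Finset.sum_apply]
      show _ = ((∑ q, mult hM P c (conjSub (o q) ((R ⊔ Subgroup.zpowers y).map P.subtype)) i : ℤ) : ℂ) * _
      rw [Int.cast_sum, Finset.sum_mul]
      refine Finset.sum_congr rfl fun q _ => ?_
      have hSq : conjSub (o q) R' ⊔ Subgroup.zpowers ((conjP (ho q) y : P) : G) =
          conjSub (o q) (R' ⊔ Subgroup.zpowers (y : G)) := by
        rw [coe_conjP, ← conjSub_zpowers']
        exact (Subgroup.map_sup _ _ _).symm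
      rw [F_value hM hmax hab hfree hi (conjSub_le (ho q) hR'P) (conjSub_ne_bot hR'1) (θq q) (hL q)
          (conjP (ho q) y).2, hSq, coe_conjP,
        dec_conj hM hmax hab hfree (ho q) (sup_le hR'P (Subgroup.zpowers_le.2 y.2))
          (ne_bot_of_le_ne_bot hR'1 le_sup_left) (hθqv q) (y : G),
        Subgroup.map_sup, MonoidHom.map_zpowers, mul_comm]
      rfl
  obtain ⟨a, ha, hainv, hmp, hag⟩ := exists_signs hM hmax.1.1.1 m hm hF
  have hap : ∀ S, S ≠ ⊥ → ¬ (p : ℤ) ∣ a S := fun S hS h => hmp S hS (by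
    rcases ha S with e | e <;> rw [e] at h
    · exact h
    · exact dvd_neg.1 h)
  obtain ⟨N, u, hN, hu, hua⟩ := exists_inverse hM hmax.1.1.1 a hap hag
  let σ : G → ℤ := fun v => if h : v ∈ P then
    (if a (Subgroup.zpowers (⟨v, h⟩ : P)) = m (Subgroup.zpowers (⟨v, h⟩ : P)) then 1 else -1) else 1
  have hmz : ∀ y : P, m (Subgroup.zpowers y) = mt (Subgroup.zpowers (y : G)) := fun y => by
    show mt _ = _
    rw [MonoidHom.map_zpowers]
    rfl
  refine ⟨σ, fun v => ?_, fun t ht v hv => ?_, fun χ l => ?_⟩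
  · simp only [σ]; split_ifs <;> simp
  · have hv' : t * v * t⁻¹ ∈ P := (Subgroup.mem_normalizer_iff.1 ht.1 v).1 hv
    have hm' : m (Subgroup.zpowers (⟨t * v * t⁻¹, hv'⟩ : P)) = m (Subgroup.zpowers (⟨v, hv⟩ : P)) := by
      rw [hmz, hmz]
      show mt (Subgroup.zpowers (t * v * t⁻¹)) = mt (Subgroup.zpowers v)
      rw [← conjSub_zpowers', hinv t ht _ (Subgroup.zpowers_le.2 hv)]
    simp only [σ, dif_pos hv, dif_pos hv', hainv _ _ hm', hm']
  · let r : P → ℂ := ∑ q, fun y => trL hM (χ : G → ℂ) (el hM ((conjP (ho q) y : P) : G) * i)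
    refine int_coeff hmax.1.1.1 (r := r) hN hu hua
      (Char.IsGeneralizedCharacter.sum _ fun q _ => Char.IsGeneralizedCharacter.comp_hom
        (gen_r hM hmax hab hi.1.1 hi.1.2.1 χ) (conjP (ho q)))
      (fun y hy => ?_) (fun y hy => ?_) l
    · have hy' : (y : G) ≠ 1 := fun h => hy (Subtype.ext h)
      have hσ : (a (Subgroup.zpowers y) : ℂ) * (σ (y : G) : ℂ) = (m (Subgroup.zpowers y) : ℂ) := by
        simp only [σ, dif_pos y.2]
        split_ifs with h
        · rw [h, Int.cast_one, mul_one]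
        · rw [(ha _).resolve_left h]; simp
      rw [← mul_assoc, hσ, hmz]
      simp only [r, mt, Finset.sum_apply, Int.cast_sum, Finset.sum_mul]
      refine Finset.sum_congr rfl fun q _ => ?_
      rw [r_value hM hmax hab hfree hi χ (conjP (ho q) y).2
        (by rw [coe_conjP]; exact fun h => hy' (conj_eq_one_iff.1 h)), coe_conjP, ← conjSub_zpowers',
        dec_conj hM hmax hab hfree (ho q) (Subgroup.zpowers_le.2 y.2)
          (fun h => hy' (Subgroup.zpowers_eq_bot.1 h))
          (f := (χ : G → ℂ)) (fun n => irr_class χ n (o q)) (y : G),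
        mul_comm]
    · refine IsIntegral.mul isIntegral_algebraMap (dec_integral hM hmax hab hfree
        (Subgroup.zpowers_le.2 y.2) (fun h => hy (Subtype.ext (Subgroup.zpowers_eq_bot.1 h))) ?_ ?_
        fun h hh => SecondMain.mem_centralizer_zpowers_iff.1 hh)
      · exact Char.IsGeneralizedCharacter.restrict
          (Char.isGeneralizedCharacter_of_isCharacter (Char.IsIrrCharacter.isCharacter χ.2)) _
      · exact LocalRank.le_centralizer hab (Subgroup.zpowers_le.2 y.2) y.2

end Cfsg.Agent.FreeInertial
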