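import Cfsg.Agent.Lib.Blocks.FreeInertial.Mult
import Cfsg.Agent.Lib.Star.Nilpotent
import Cfsg.Agent.Lib.Star.Twist

/-!
# The compatible signs of the generalised decomposition numbers

* `gen_trace`, `trL_twist`: the twisted traces of a source are generalised characters on `P`;
* `dec_norm`: the local decomposition numbers have absolute value one;
* `exists_sign`: signs making the coefficients of the decomposition numbers integral.
-/

set_option autoImplicit false
set_option maxHeartbeats 1000000
set_option synthInstance.maxHeartbeats 200000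
set_option linter.unusedSectionVars false

open scoped ComplexConjugate

namespace Cfsg.Agent.FreeInertial

open Cfsg Cfsg.Agent.Blocks Cfsg.Agent.BrauerPairs Cfsg.Agent.Star Cfsg.Agent.SecondMain

variable {G : Type*} [Group G] [Finite G] {p : ℕ} [Fact p.Prime] {M : Ideal AlgInt}
  (hM : IsPModular p M) {B : Set (IrrCharacter G)} {P : Subgroup G}
  {c : Set (IrrCharacter (Subgroup.centralizer (P : Set G)))}

/-- A commutative subgroup as a commutative group. -/
@[reducible] def commP (hab : ∀ x ∈ P, ∀ y ∈ P, x * y = y * x) : CommGroup P :=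
  { (inferInstance : Group P) with mul_comm := fun a b => Subtype.ext (hab a a.2 b b.2) }

/-- A twisted trace is a generalised character. -/
theorem gen_trace {A : Type*} [CommGroup A] [Finite A] (hA : IsPGroup p A) {H : Type*} [Group H]
    [Finite H] (φ : A →* H) (hφ : Function.Injective φ) {χ : H → ℂ} (hχ : IsCharacter H χ)
    {i : Loc hM H} (hi : Fixed φ.range i) (hii : i * i = i) :
    IsGeneralizedCharacter A fun a => trL hM χ (el hM (φ a) * i) := by
  classical
  have := Fintype.ofFinite A
  have := Fintype.ofFinite φ.range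
  have := Fintype.ofFinite (A →* ℂˣ)
  let e : A ≃* φ.range := MonoidHom.ofInjective hφ
  set f : A → ℂ := fun a => trL hM χ (el hM (φ a) * i) with hf
  have hint : ∀ l : A →* ℂˣ, ∃ n : ℤ, coef f l = n := by
    intro l
    obtain ⟨m, hm⟩ := exists_int_char hM hχ φ.range (IsPGroup.of_equiv hA e)
      (θ := fun u : φ.range => ((l⁻¹ : A →* ℂˣ) (e.symm u) : ℂ))
      (Char.isGeneralizedCharacter_of_isCharacter
        (Char.isCharacter_of_hom ((Units.coeHom ℂ).comp ((l⁻¹ : A →* ℂˣ).comp e.symm.toMonoidHom))))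
      hi hii
    refine ⟨m, ?_⟩
    rw [← hm, coef_eq, Nat.card_congr e.toEquiv]
    congr 1
    refine Fintype.sum_equiv e.toEquiv _ _ fun a => ?_
    rw [MulEquiv.toEquiv_eq_coe, EquivLike.coe_coe, e.symm_apply_apply, MonoidHom.inv_apply, map_inv,
      mul_comm]
    rfl
  choose n hn using hint
  rw [show f = ∑ l : A →* ℂˣ, (n l : ℂ) • fn l from funext fun y => by
    rw [coef_expand f y, Finset.sum_apply]
    exact Finset.sum_congr rfl fun l _ => by rw [hn, Pi.smul_apply, smul_eq_mul]; rfl]
  exact Char.IsGeneralizedCharacter.sum _ fun l _ =>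
    Char.IsGeneralizedCharacter.intCast_smul (gen_fn l) (n l)

theorem trL_el_down {H : Subgroup G} {Z : Loc hM G} (hZ : SuppIn H Z) (f : G → ℂ) (u : H) :
    trL hM (fun h : H => f h) (el hM u * down hM H Z) = trL hM f (el hM (u : G) * Z) := by
  classical
  have := Fintype.ofFinite G
  have := Fintype.ofFinite H
  rw [trL_el_mul, trL_el_mul]
  simp only [coeff_down, Subgroup.coe_mul]
  rw [← Finset.sum_filter_of_ne (s := (Finset.univ : Finset G)) (p := (· ∈ H))]
  · exact (Finset.sum_subtype _ (fun x => by simp)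
      fun n : G => (Z.coeff n : ℂ) * f ((u : G) * n)).symm
  · intro n _ hn
    by_contra hnH
    exact hn (by rw [hZ n hnH, Subring.coe_zero, zero_mul])

/-- The twisted trace of a character of the group. -/
theorem gen_r (hmax : IsMaximalBrauerPair p M B P c) (hab : ∀ x ∈ P, ∀ y ∈ P, x * y = y * x)
    {i : Loc hM G} (hi : Fixed P i) (hii : i * i = i) (χ : IrrCharacter G) :
    IsGeneralizedCharacter P fun v : P => trL hM (χ : G → ℂ) (el hM (v : G) * i) := by
  let := commP hab
  refine gen_trace hM hmax.1.1.1 P.subtype P.subtype_injective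
    (Char.IsIrrCharacter.isCharacter χ.2) ?_ hii
  rwa [Subgroup.range_subtype]

/-- The twisted trace at a non-trivial element. -/
theorem r_value (hmax : IsMaximalBrauerPair p M B P c) (hab : ∀ x ∈ P, ∀ y ∈ P, x * y = y * x)
    (hfree : Free M P c) {i : Loc hM G} (hi : IsSource hM P c i) (χ : IrrCharacter G) {v : G}
    (hv : v ∈ P) (hv1 : v ≠ 1) :
    trL hM (χ : G → ℂ) (el hM v * i) =
      dec p M P c (Subgroup.zpowers v) (χ : G → ℂ) v * mult hM P c (Subgroup.zpowers v) i := by
  classical
  have := Fintype.ofFinite G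
  set Q := Subgroup.zpowers v with hQ
  have hQP : Q ≤ P := Subgroup.zpowers_le.2 hv
  have hQ1 : Q ≠ ⊥ := fun h => hv1 (Subgroup.zpowers_eq_bot.1 h)
  have hvk : ∃ k, orderOf v = p ^ k := by
    obtain ⟨k, hk⟩ := IsPGroup.iff_orderOf.1 hmax.1.1.1 ⟨v, hv⟩
    exact ⟨k, by rw [← hk, ← Subgroup.orderOf_coe]⟩
  obtain ⟨L, hL⟩ := exists_liftAt hM hmax.1.1.1 hab hQP hi.1.1 hi.1.2.1
  have hcls : ∀ h ∈ Subgroup.centralizer (Q : Set G), ∀ n,
      (χ : G → ℂ) (h * n * h⁻¹) = (χ : G → ℂ) n := fun h _ n => irr_class χ n h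
  have hcomm : ∀ h ∈ Subgroup.centralizer (Q : Set G), Commute v h :=
    fun h hh => SecondMain.mem_centralizer_zpowers_iff.1 hh
  rw [trL_el_eq_of_congr hM (irr_class χ) hvk (hi.1.1.mono hQP) hi.1.2.1 (hL.2.1.mono hQP) hL.2.2.1
      (by rw [hL.2.2.2, br_br le_rfl]),
    trace_section hM (blk_spec hM hmax hQP).1 hL.1 hL.2.2.1
      (by rw [hL.2.2.2]; exact br_mul_blk hM hmax hi hQP) hcls hcomm (th_inv hM hmax hQP)
      (fun m hm hreg => piece_local hM hmax hab hfree hQP hQ1 hcls hcomm hm hreg),
    mult_spec hM hmax hab hQP hi.1.1 hi.1.2.1 hL]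

/-- The twisted trace in the centraliser of a subgroup is a generalised character. -/
theorem gen_F (hmax : IsMaximalBrauerPair p M B P c) (hab : ∀ x ∈ P, ∀ y ∈ P, x * y = y * x)
    {R : Subgroup G} (hRP : R ≤ P) (θ : IrrCharacter (Subgroup.centralizer (R : Set G)))
    {i L : Loc hM G} (hL : IsLiftAt hM P R i L) :
    IsGeneralizedCharacter P fun y : P =>
      trL hM (ext _ (θ : Subgroup.centralizer (R : Set G) → ℂ)) (el hM (y : G) * L) := by
  let := commP hab
  have hPH : P ≤ Subgroup.centralizer (R : Set G) := LocalRank.le_centralizer hab hRP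
  have h := gen_trace hM hmax.1.1.1 (Subgroup.inclusion hPH) (Subgroup.inclusion_injective hPH)
    (Char.IsIrrCharacter.isCharacter θ.2) (i := down hM (Subgroup.centralizer (R : Set G)) L)
    ((fixed_down hM hL.2.1).mono fun x hx => by
      obtain ⟨y, rfl⟩ := hx
      exact y.2)
    (by rw [← down_mul hM hL.1, hL.2.2.1])
  refine (congrArg (fun g : P → ℂ => IsGeneralizedCharacter P g) (funext fun y => ?_)).mp h
  rw [show (θ : Subgroup.centralizer (R : Set G) → ℂ) = fun x : Subgroup.centralizer (R : Set G) =>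
      ext _ (θ : Subgroup.centralizer (R : Set G) → ℂ) (x : G) from funext fun x => (ext_coe _ _ x).symm,
    trL_el_down hM hL.1]
  simp only [ext_coe]
  rfl

theorem br_sup_zpowers {R : Subgroup G} {y : G} (a : MonoidAlgebra (Res M) G) :
    br (Subgroup.zpowers y) (br R a) = br (R ⊔ Subgroup.zpowers y) a := by
  classical
  ext x
  simp only [coeff_br]
  by_cases hx : x ∈ Subgroup.centralizer ((R ⊔ Subgroup.zpowers y : Subgroup G) : Set G)
  · rw [if_pos hx, if_pos (Subgroup.centralizer_le (le_sup_right (a := R)) hx),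
      if_pos (Subgroup.centralizer_le (le_sup_left (b := Subgroup.zpowers y)) hx)]
  · rw [if_neg hx]
    split_ifs with h1 h2
    · refine absurd ?_ hx
      rw [← le_centralizer_singleton] at h1 h2 ⊢
      exact sup_le h2 h1
    · rfl
    · rfl

/-- The twisted trace in the centraliser of a subgroup. -/
theorem F_value (hmax : IsMaximalBrauerPair p M B P c) (hab : ∀ x ∈ P, ∀ y ∈ P, x * y = y * x)
    (hfree : Free M P c) {i : Loc hM G} (hi : IsSource hM P c i) {R : Subgroup G} (hRP : R ≤ P)
    (hR : R ≠ ⊥) (θ : IrrCharacter (Subgroup.centralizer (R : Set G))) {L : Loc hM G}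
    (hL : IsLiftAt hM P R i L) {y : G} (hy : y ∈ P) :
    trL hM (ext _ (θ : Subgroup.centralizer (R : Set G) → ℂ)) (el hM y * L) =
      dec p M P c (R ⊔ Subgroup.zpowers y) (ext _ (θ : Subgroup.centralizer (R : Set G) → ℂ)) y *
        mult hM P c (R ⊔ Subgroup.zpowers y) i := by
  classical
  have := Fintype.ofFinite G
  set S := R ⊔ Subgroup.zpowers y with hS
  set f := ext _ (θ : Subgroup.centralizer (R : Set G) → ℂ) with hf
  have hSP : S ≤ P := sup_le hRP (Subgroup.zpowers_le.2 hy)
  have hS1 : S ≠ ⊥ := ne_bot_of_le_ne_bot hR le_sup_left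
  have hyC : y ∈ Subgroup.centralizer (R : Set G) := LocalRank.le_centralizer hab hRP hy
  have hyk : ∃ k, orderOf y = p ^ k := by
    obtain ⟨k, hk⟩ := IsPGroup.iff_orderOf.1 hmax.1.1.1 ⟨y, hy⟩
    exact ⟨k, by rw [← hk, ← Subgroup.orderOf_coe]⟩
  obtain ⟨L', hL'⟩ := exists_liftAt hM hmax.1.1.1 hab hSP hi.1.1 hi.1.2.1
  have hcR : ∀ h ∈ Subgroup.centralizer (R : Set G), ∀ n, f (h * n * h⁻¹) = f n :=
    fun h hh n => ext_conj (irr_class θ) hh n
  have hle : Subgroup.centralizer (S : Set G) ≤ Subgroup.centralizer (R : Set G) :=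
    Subgroup.centralizer_le (le_sup_left : R ≤ S)
  have hcomm : ∀ h ∈ Subgroup.centralizer (S : Set G), Commute y h := fun h hh =>
    SecondMain.mem_centralizer_zpowers_iff.1
      (Subgroup.centralizer_le (le_sup_right : Subgroup.zpowers y ≤ S) hh)
  rw [congr_sub hM hyC hyk hcR hL.1 (hL'.1.mono hle) (hL.2.1.mono (Subgroup.zpowers_le.2 hy))
      (hL'.2.1.mono (Subgroup.zpowers_le.2 hy)) hL.2.2.1 hL'.2.2.1
      (by rw [hL.2.2.2, hL'.2.2.2, br_sup_zpowers, br_sup_zpowers,
        sup_eq_left.2 (le_sup_right : Subgroup.zpowers y ≤ S)]),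
    trace_section hM (blk_spec hM hmax hSP).1 hL'.1 hL'.2.2.1
      (by rw [hL'.2.2.2]; exact br_mul_blk hM hmax hi hSP) (fun h hh => hcR h (hle hh)) hcomm
      (th_inv hM hmax hSP)
      (fun m hm hreg => piece_local hM hmax hab hfree hSP hS1 (fun h hh => hcR h (hle hh)) hcomm hm
        hreg),
    mult_spec hM hmax hab hSP hi.1.1 hi.1.2.1 hL']

open scoped Classical in
include hM in
/-- Local decomposition numbers have absolute value one. -/
theorem dec_norm (hmax : IsMaximalBrauerPair p M B P c) (hab : ∀ x ∈ P, ∀ y ∈ P, x * y = y * x)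
    (hfree : Free M P c) {R : Subgroup G} (hRP : R ≤ P) (hR : R ≠ ⊥)
    {θ : IrrCharacter (Subgroup.centralizer (R : Set G))} (hθ : θ ∈ blk p M P c R) {y : G}
    (hy : y ∈ P) :
    dec p M P c (R ⊔ Subgroup.zpowers y) (ext _ (θ : Subgroup.centralizer (R : Set G) → ℂ)) y *
      conj (dec p M P c (R ⊔ Subgroup.zpowers y)
        (ext _ (θ : Subgroup.centralizer (R : Set G) → ℂ)) y) = 1 := by
  have := Fintype.ofFinite G
  obtain ⟨P', c', hmax', hmap, hemb, hst⟩ := exists_local hM hmax hab hRP
  have hnil := nilpotent_at hM hmax hab hfree hRP hR hmax' hmap hst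
  have hh0 := (local_summary hM hmax hab hfree hRP hR).2.1 θ hθ
  have := Fintype.ofFinite (Subgroup.centralizer (R : Set G))
  have := Fintype.ofFinite P'
  set S := R ⊔ Subgroup.zpowers y with hS
  set f := ext (Subgroup.centralizer (R : Set G)) (θ : (Subgroup.centralizer (R : Set G)) → ℂ) with hf
  have hSP : S ≤ P := sup_le hRP (Subgroup.zpowers_le.2 hy)
  have hS1 : S ≠ ⊥ := ne_bot_of_le_ne_bot hR le_sup_left
  have hPH : P ≤ (Subgroup.centralizer (R : Set G)) := LocalRank.le_centralizer hab hRP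
  set y' : (Subgroup.centralizer (R : Set G)) := ⟨y, hPH hy⟩ with hy'
  have hyP' : y' ∈ P' := by
    have : (y' : G) ∈ P'.map (Subgroup.centralizer (R : Set G)).subtype := hmap.symm ▸ hy
    obtain ⟨z, hz, hzy⟩ := Subgroup.mem_map.1 this
    rwa [← Subtype.ext hzy]
  have hw := Star.nilpotent_weight_eq_one hM hmax' hnil hθ hh0 (⟨y', hyP'⟩ : P')
  set K := Subgroup.centralizer (Subgroup.zpowers y' : Set (Subgroup.centralizer (R : Set G))) with hK
  set CS := Subgroup.centralizer (S : Set G) with hCS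
  have hmem : ∀ x : (Subgroup.centralizer (R : Set G)), x ∈ K ↔ (x : G) ∈ CS := by
    intro x
    rw [hK, SecondMain.mem_centralizer_zpowers_iff]
    constructor
    · intro hc
      rw [hCS, ← le_centralizer_singleton, sup_le_iff]
      refine ⟨?_, ?_⟩ <;> rw [le_centralizer_singleton]
      · exact x.2
      · exact SecondMain.mem_centralizer_zpowers_iff.2 (congrArg Subtype.val hc.eq)
    · exact fun hc => Subtype.ext (SecondMain.mem_centralizer_zpowers_iff.1
        (Subgroup.centralizer_le (le_sup_right : Subgroup.zpowers y ≤ S) hc)).eq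
  have hle : CS ≤ (Subgroup.centralizer (R : Set G)) := Subgroup.centralizer_le (le_sup_left : R ≤ S)
  let ι : K ≃* CS :=
    { toFun := fun x => ⟨((x : (Subgroup.centralizer (R : Set G))) : G), (hmem x).1 x.2⟩
      invFun := fun x => ⟨⟨(x : G), hle x.2⟩, (hmem _).2 x.2⟩
      left_inv := fun _ => rfl
      right_inv := fun _ => rfl
      map_mul' := fun _ _ => rfl }
  obtain ⟨hb, hble⟩ := blk_spec hM hmax hSP
  set b := blk p M P c S with hbdef
  set b'' : Set (IrrCharacter K) := pullIrr ι '' b with hb''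
  have hb''B : IsPBlock M b'' := isPBlock_image _ hb
  have hcoef : ∀ x : (Subgroup.centralizer (R : Set G)), subgroupBlockCoeff K b'' x = subgroupBlockCoeff CS b (x : G) := by
    intro x
    simp only [subgroupBlockCoeff]
    by_cases hx : x ∈ K
    · rw [dif_pos hx, dif_pos ((hmem x).1 hx), hb'', blockCoeff_image]
      rfl
    · rw [dif_neg hx, dif_neg fun h => hx ((hmem x).2 h)]
  have hembb : emb (Subgroup.centralizer (R : Set G)) (cb M (Subgroup.zpowers y') b'') = cb M S b := by
    ext x
    by_cases hx : x ∈ (Subgroup.centralizer (R : Set G))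
    · refine (coeff_emb_coe (Subgroup.centralizer (R : Set G)) (cb M (Subgroup.zpowers y') b'') ⟨x, hx⟩).trans ?_
      rw [coeff_bIdem hM, coeff_bIdem hM, hcoef]
    · rw [suppIn_emb (Subgroup.centralizer (R : Set G)) _ x hx, (bIdem_central _ _).1 x fun h => hx (hle h)]
  have hzle : Subgroup.zpowers y' ≤ P' := Subgroup.zpowers_le.2 hyP'
  have hab' := comm_local hmap hab
  have hbr := ((isNormalSubpair_iff hM).1
    (normalSubpair_of_le hM hmax.1.1 hble (le_normalizer_of_le hab hSP))).2.2.2.2.2
  have hsub : SubpairLE p M (Subgroup.zpowers y') b'' P' c' := by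
    refine Relation.ReflTransGen.single ((isNormalSubpair_iff hM).2 ⟨⟨hmax'.1.1.1.to_le hzle, hb''B⟩,
      hmax'.1.1, hzle, le_normalizer_of_le hab' hzle,
      fun u hu => (bIdem_central _ b'').2 u (LocalRank.le_centralizer hab' hzle hu), ?_⟩)
    refine emb_injective (Subgroup.centralizer (R : Set G)) ?_
    show emb (Subgroup.centralizer (R : Set G)) (br P' (cb M (Subgroup.zpowers y') b'') * cb M P' c') = emb (Subgroup.centralizer (R : Set G)) (cb M P' c')
    rw [map_mul, emb_br, hembb, hemb, hmap]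
    exact hbr
  have hsubAt : (⟨Subgroup.zpowers y', b''⟩ : BrauerPairIdx (Subgroup.centralizer (R : Set G))) = subAt p M P' c' y' :=
    subAt_unique hM hmax' hyP' rfl hsub
  have hcP : cP P' y' = Nat.card P := by
    rw [cP, inf_eq_left.2 (LocalRank.le_centralizer hab' hzle), ← hmap]
    exact Nat.card_congr (Subgroup.equivMapOfInjective P' _ (Subgroup.subtype_injective _)).toEquiv
  have := Fintype.ofFinite CS
  set D := dec p M P c S f y with hD
  have hcR : ∀ h ∈ CS, ∀ n, f (h * n * h⁻¹) = f n := fun h hh n => ext_conj (irr_class θ) (hle hh) n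
  have hcomm : ∀ h ∈ CS, Commute y h := fun h hh => SecondMain.mem_centralizer_zpowers_iff.1
    (Subgroup.centralizer_le (le_sup_right : Subgroup.zpowers y ≤ S) hh)
  have hpiece : ∀ s ∈ regSet p y', piece (⟨Subgroup.zpowers y', b''⟩ : BrauerPairIdx (Subgroup.centralizer (R : Set G))) (θ : (Subgroup.centralizer (R : Set G)) → ℂ)
      (y' * s) = D * th p M P c S (s : G) := by
    intro s hs
    obtain ⟨hc, hreg⟩ := mem_regSet.1 hs
    have hsC : (s : G) ∈ CS := (hmem s).1 (SecondMain.mem_centralizer_zpowers_iff.2 hc)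
    rw [piece_def, ← piece_local hM hmax hab hfree hSP hS1 hcR hcomm hsC
      (by rwa [Subgroup.orderOf_coe])]
    rw [← Finset.sum_filter_of_ne (s := (Finset.univ : Finset G)) (p := (· ∈ (Subgroup.centralizer (R : Set G))))
      (fun k _ hk => by
        by_contra h
        exact hk (by rw [subgroupBlockCoeff, dif_neg fun h' => h (hle h'), zero_mul])),
      Finset.sum_subtype (p := (· ∈ (Subgroup.centralizer (R : Set G)))) _ (fun k => by simp)]
    refine Finset.sum_congr rfl fun k _ => ?_
    rw [hcoef, show f ((k : G) * (y * (s : G))) = (θ : (Subgroup.centralizer (R : Set G)) → ℂ) (k * (y' * s)) from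
      ext_coe (Subgroup.centralizer (R : Set G)) (θ : (Subgroup.centralizer (R : Set G)) → ℂ) (k * (y' * s))]
  have hnorm := regInner_th hM hmax hab hfree hSP hS1
  rw [regInner_eq_sum] at hnorm
  have hsum : ∑ s ∈ regSet p y', th p M P c S (s : G) * conj (th p M P c S (s : G)) =
      ∑ s ∈ (Finset.univ : Finset CS).filter (fun s => ¬ p ∣ orderOf s),
        th p M P c S (s : G) * conj (th p M P c S (s : G)) := by
    refine Finset.sum_bij (fun s hs => (⟨(s : G), (hmem s).1
      (SecondMain.mem_centralizer_zpowers_iff.2 (mem_regSet.1 hs).1)⟩ : CS)) (fun s hs => ?_)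
      (fun a _ b _ h => Subtype.ext (congrArg Subtype.val h :)) (fun s hs => ?_) fun _ _ => rfl
    · refine Finset.mem_filter.2 ⟨Finset.mem_univ _, ?_⟩
      rw [← Subgroup.orderOf_coe, Subtype.coe_mk, Subgroup.orderOf_coe]
      exact (mem_regSet.1 hs).2
    · refine ⟨⟨(s : G), hle s.2⟩, mem_regSet.2
        ⟨SecondMain.mem_centralizer_zpowers_iff.1 ((hmem _).2 s.2), ?_⟩, rfl⟩
      rw [← Subgroup.orderOf_coe, Subtype.coe_mk, Subgroup.orderOf_coe]
      exact (Finset.mem_filter.1 hs).2
  have hnw : ((nw p M P' c' (θ : (Subgroup.centralizer (R : Set G)) → ℂ) y' : ℝ) : ℂ) = D * conj D := by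
    rw [nw, ← hsubAt, hcP, pieceW, Complex.ofReal_mul, Complex.ofReal_natCast, Complex.ofReal_div,
      Complex.ofReal_natCast, Complex.ofReal_sum]
    rw [Finset.sum_congr (s₁ := regSet p y') rfl fun s hs => show
        ((Complex.normSq (piece (⟨Subgroup.zpowers y', b''⟩ : BrauerPairIdx (Subgroup.centralizer (R : Set G)))
          (θ : Subgroup.centralizer (R : Set G) → ℂ) (y' * s)) : ℝ) : ℂ) = (D * conj D) *
        (th p M P c S (s : G) * conj (th p M P c S (s : G))) by
      rw [← Complex.mul_conj, hpiece s hs, map_mul]; ring, ← Finset.mul_sum, hsum,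
      Nat.card_congr ι.toEquiv]
    have hP0 : (Nat.card P : ℂ) ≠ 0 := Nat.cast_ne_zero.2 Nat.card_pos.ne'
    calc _ = (Nat.card P : ℂ) * (D * conj D) * ((Nat.card CS : ℂ)⁻¹ *
          ∑ s ∈ (Finset.univ : Finset CS).filter (fun s => ¬ p ∣ orderOf s),
            th p M P c S (s : G) * conj (th p M P c S (s : G))) := by ring
      _ = D * conj D := by rw [hnorm]; field_simp
  rw [← hnw, show nw p M P' c' (θ : (Subgroup.centralizer (R : Set G)) → ℂ) y' = 1 from hw, Complex.ofReal_one]

end Cfsg.Agent.FreeInertial
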