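import Cfsg.Agent.Lib.Char.Virtual
import Cfsg.Agent.Lib.Char.Linear
import Cfsg.Agent.Lib.Blocks.Local
import Cfsg.Agent.Lib.CharApp.Galois
import Cfsg.Agent.Lib.RegPart.Basic
import Cfsg.Agent.Lib.Blocks.Trace

/-!
# Gluing generalised characters of abelian `p`-groups

* `coef`, `coef_int`, `coef_expand`: Fourier coefficients on an abelian group;
* `glue`: a function on the non-trivial subgroups whose restrictions above every non-trivial
  subgroup are generalised characters gives one on the group;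
* `exists_twist`: a generalised character with values of modulus prime to `p` is a linear character
  times a rational one;
* `exists_unit`: the moduli of a compatible family are, up to sign, a generalised character which
  is invertible up to an integer prime to `p`.
-/

set_option autoImplicit false

open scoped ComplexConjugate

namespace Cfsg.Agent.FreeInertial

open Cfsg Cfsg.Agent.Blocks

variable {A : Type*} [CommGroup A] [Finite A]

instance : Finite (A →* ℂˣ) := by
  haveI : NeZero (Monoid.exponent A : ℂ) :=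
    ⟨Nat.cast_ne_zero.mpr Monoid.exponent_ne_zero_of_finite⟩
  exact Finite.of_equiv A
    (CommGroup.monoidHom_mulEquiv_of_hasEnoughRootsOfUnity A ℂ).some.symm.toEquiv

theorem card_dual : Nat.card (A →* ℂˣ) = Nat.card A := by
  haveI : NeZero (Monoid.exponent A : ℂ) :=
    ⟨Nat.cast_ne_zero.mpr Monoid.exponent_ne_zero_of_finite⟩
  exact Nat.card_congr (CommGroup.monoidHom_mulEquiv_of_hasEnoughRootsOfUnity A ℂ).some.toEquiv

theorem exists_ne_one {x : A} (hx : x ≠ 1) : ∃ ψ : A →* ℂˣ, ψ x ≠ 1 := by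
  haveI : NeZero (Monoid.exponent A : ℂ) :=
    ⟨Nat.cast_ne_zero.mpr Monoid.exponent_ne_zero_of_finite⟩
  exact CommGroup.exists_apply_ne_one_of_hasEnoughRootsOfUnity A ℂ hx

theorem conj_apply (l : A →* ℂˣ) (x : A) : conj (l x : ℂ) = (l x⁻¹ : ℂ) := by
  rw [map_inv, Units.val_inv_eq_inv_val]
  refine (Complex.inv_eq_conj ?_).symm
  refine Complex.norm_eq_one_of_pow_eq_one (n := Nat.card A) ?_ Nat.card_pos.ne'
  rw [← Units.val_pow_eq_pow_val, ← map_pow, pow_card_eq_one', map_one, Units.val_one]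

theorem sum_dual [DecidableEq A] [Fintype (A →* ℂˣ)] (x : A) :
    ∑ l : A →* ℂˣ, (l x : ℂ) = if x = 1 then (Nat.card A : ℂ) else 0 := by
  by_cases hx : x = 1
  · simp [hx, ← card_dual (A := A)]
  · rw [if_neg hx]
    obtain ⟨ψ, hψ⟩ := exists_ne_one hx
    have h1 : ∑ l : A →* ℂˣ, (l x : ℂ) = (ψ x : ℂ) * ∑ l : A →* ℂˣ, (l x : ℂ) := by
      rw [Finset.mul_sum]
      exact (Fintype.sum_equiv (Equiv.mulLeft ψ) _ _ fun l => by simp).symm
    by_contra h0
    exact hψ (Units.val_eq_one.mp (mul_eq_right₀ h0 |>.mp h1.symm))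

theorem sum_group [Fintype A] (l : A →* ℂˣ) [Decidable (l = 1)] :
    ∑ y : A, (l y : ℂ) = if l = 1 then (Nat.card A : ℂ) else 0 := by
  by_cases hl : l = 1
  · simp [hl, Nat.card_eq_fintype_card]
  · rw [if_neg hl]
    obtain ⟨x, hx⟩ : ∃ x, l x ≠ 1 := by
      by_contra h
      push Not at h
      exact hl (MonoidHom.ext h)
    have h1 : ∑ y : A, (l y : ℂ) = (l x : ℂ) * ∑ y : A, (l y : ℂ) := by
      rw [Finset.mul_sum]
      exact (Fintype.sum_equiv (Equiv.mulLeft x) _ _ fun y => by simp).symm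
    by_contra h0
    exact hx (Units.val_eq_one.mp (mul_eq_right₀ h0 |>.mp h1.symm))

/-- A linear character as a function. -/
noncomputable def fn (l : A →* ℂˣ) : A → ℂ := fun y => (l y : ℂ)

theorem gen_fn (l : A →* ℂˣ) : IsGeneralizedCharacter A (fn l) :=
  Char.isGeneralizedCharacter_of_isCharacter
    (Char.isCharacter_of_hom ((Units.coeHom ℂ).comp l))

theorem gen_const (c : ℤ) : IsGeneralizedCharacter A (fun _ => (c : ℂ)) := by
  have h := Char.IsGeneralizedCharacter.intCast_smul (gen_fn (1 : A →* ℂˣ)) c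
  convert h using 1
  funext y
  simp [fn]

/-- The coefficient of a linear character. -/
noncomputable def coef (f : A → ℂ) (l : A →* ℂˣ) : ℂ :=
  letI := Fintype.ofFinite A
  classInner f (fn l)

theorem coef_eq [Fintype A] (f : A → ℂ) (l : A →* ℂˣ) :
    coef f l = (Nat.card A : ℂ)⁻¹ * ∑ y : A, f y * (l y⁻¹ : ℂ) := by
  unfold coef classInner
  simp only [fn, conj_apply]
  congr!

theorem coef_int {f : A → ℂ} (hf : IsGeneralizedCharacter A f) (l : A →* ℂˣ) :
    ∃ n : ℤ, coef f l = n := by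
  let := Fintype.ofFinite A
  exact Char.IsGeneralizedCharacter.classInner_int hf (gen_fn l)

theorem coef_expand [Fintype (A →* ℂˣ)] (f : A → ℂ) (y : A) :
    f y = ∑ l : A →* ℂˣ, coef f l * (l y : ℂ) := by
  classical
  have := Fintype.ofFinite A
  simp only [coef_eq, mul_assoc, Finset.sum_mul, ← Finset.mul_sum]
  rw [Finset.sum_comm, Finset.sum_congr rfl fun x _ => show ∑ l : A →* ℂˣ, f x * ((l x⁻¹ : ℂ) * (l y : ℂ)) =
      f x * (if x⁻¹ * y = 1 then (Nat.card A : ℂ) else 0) by
    rw [← sum_dual, Finset.mul_sum]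
    simp,
    Finset.sum_eq_single y (fun x _ hx => by rw [if_neg (fun h => hx (inv_mul_eq_one.1 h)), mul_zero])
      (fun h => absurd (Finset.mem_univ _) h), if_pos (inv_mul_cancel y),
    mul_comm (f y), ← mul_assoc, inv_mul_cancel₀ (Nat.cast_ne_zero.2 Nat.card_pos.ne'), one_mul]

theorem sum_above [Fintype (A →* ℂˣ)] (Q : Subgroup A) (y : A)
    [DecidablePred fun l : A →* ℂˣ => Q ≤ l.ker] [Decidable (y ∈ Q)] :
    ∑ l ∈ Finset.univ.filter (fun l : A →* ℂˣ => Q ≤ l.ker), (l y : ℂ) =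
      if y ∈ Q then (Q.index : ℂ) else 0 := by
  classical
  have := Fintype.ofFinite (A ⧸ Q →* ℂˣ)
  have h : ∑ l ∈ Finset.univ.filter (fun l : A →* ℂˣ => Q ≤ l.ker), (l y : ℂ) =
      ∑ μ : A ⧸ Q →* ℂˣ, (μ (y : A ⧸ Q) : ℂ) := by
    symm
    refine Finset.sum_bij (fun μ _ => μ.comp (QuotientGroup.mk' Q)) (fun μ _ => ?_)
      (fun μ _ ν _ h => ?_) (fun l hl => ?_) fun μ _ => rfl
    · refine Finset.mem_filter.2 ⟨Finset.mem_univ _, fun x hx => ?_⟩
      simp [(QuotientGroup.eq_one_iff x).2 hx]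
    · exact MonoidHom.ext fun q => QuotientGroup.induction_on q fun x =>
        DFunLike.congr_fun h x
    · exact ⟨QuotientGroup.lift Q l fun x hx => (Finset.mem_filter.1 hl).2 hx,
        Finset.mem_univ _, MonoidHom.ext fun x => rfl⟩
  rw [h, sum_dual, ← Subgroup.index_eq_card]
  simp only [QuotientGroup.eq_one_iff]

/-- The permutation character of `A` on the cosets of a subgroup. -/
theorem gen_perm (Q : Subgroup A) [DecidablePred (· ∈ Q)] :
    IsGeneralizedCharacter A (fun y => if y ∈ Q then (Q.index : ℂ) else 0) := by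
  classical
  have := Fintype.ofFinite (A →* ℂˣ)
  have h := Char.IsGeneralizedCharacter.sum (Finset.univ.filter (fun l : A →* ℂˣ => Q ≤ l.ker))
    fun l _ => gen_fn l
  convert h using 1
  funext y
  rw [Finset.sum_apply]
  exact (sum_above Q y).symm

/-! ### Gluing -/

/-- A function on the non-trivial subgroups with generalised characters as restrictions comes
from a generalised character. -/
theorem glue (a : Subgroup A → ℤ)
    (ha : ∀ R : Subgroup A, R ≠ ⊥ →
      IsGeneralizedCharacter A fun y => (a (R ⊔ Subgroup.zpowers y) : ℂ)) :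
    ∃ h : A → ℂ, IsGeneralizedCharacter A h ∧
      ∀ y : A, y ≠ 1 → h y = (a (Subgroup.zpowers y) : ℂ) := by
  classical
  have := Fintype.ofFinite A
  have := Fintype.ofFinite (Subgroup A)
  have key : ∀ n : ℕ, ∃ c : Subgroup A → ℤ, ∀ S : Subgroup A, S ≠ ⊥ → S.index ≤ n →
      (a S : ℂ) = ∑ Q ∈ Finset.univ.filter (fun Q => S ≤ Q), (c Q : ℂ) * Q.index := by
    intro n
    induction n with
    | zero => exact ⟨0, fun S _ h => absurd (Nat.le_zero.1 h) Subgroup.index_ne_zero_of_finite⟩
    | succ n ih =>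
      obtain ⟨c, hc⟩ := ih
      have hdiv : ∀ S : Subgroup A, ∃ t : ℤ, S ≠ ⊥ → S.index = n + 1 →
          (a S : ℂ) = (t : ℂ) * S.index +
            ∑ Q ∈ Finset.univ.filter (fun Q => S < Q), (c Q : ℂ) * Q.index := by
        intro S
        by_cases hS : S ≠ ⊥ ∧ S.index = n + 1
        swap
        · exact ⟨0, fun h1 h2 => absurd ⟨h1, h2⟩ hS⟩
        obtain ⟨hS, hSn⟩ := hS
        set g : A → ℂ := (fun y => (a (S ⊔ Subgroup.zpowers y) : ℂ)) -
          ∑ Q ∈ Finset.univ.filter (fun Q => S < Q),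
            (c Q : ℂ) • (fun y => if y ∈ Q then (Q.index : ℂ) else 0) with hg
        have hgen : IsGeneralizedCharacter A g := Char.IsGeneralizedCharacter.sub (ha S hS)
          (Char.IsGeneralizedCharacter.sum _ fun Q _ =>
            Char.IsGeneralizedCharacter.intCast_smul (gen_perm Q) _)
        set t : ℂ := (a S : ℂ) - ∑ Q ∈ Finset.univ.filter (fun Q => S < Q), (c Q : ℂ) * Q.index
          with ht
        have hval : ∀ y, g y = if y ∈ S then t else 0 := by
          intro y
          simp only [hg, Pi.sub_apply, Finset.sum_apply, Pi.smul_apply, smul_eq_mul, mul_ite,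
            mul_zero]
          by_cases hy : y ∈ S
          · rw [if_pos hy, sup_eq_left.2 (Subgroup.zpowers_le.2 hy), ht]
            congr 1
            exact Finset.sum_congr rfl fun Q hQ => if_pos ((Finset.mem_filter.1 hQ).2.le hy)
          · have hlt : S < S ⊔ Subgroup.zpowers y :=
              lt_of_le_of_ne le_sup_left fun h => hy (h.symm ▸
                Subgroup.mem_sup_right (Subgroup.mem_zpowers y))
            have hidx : (S ⊔ Subgroup.zpowers y).index ≤ n := by
              have := Subgroup.index_strictAnti hlt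
              omega
            rw [if_neg hy, hc _ (ne_bot_of_gt hlt) hidx, sub_eq_zero, ← Finset.sum_filter,
              Finset.filter_filter]
            refine Finset.sum_congr (Finset.ext fun Q => ?_) fun _ _ => rfl
            simp only [Finset.mem_filter, Finset.mem_univ, true_and, sup_le_iff, Subgroup.zpowers_le]
            exact ⟨fun h => ⟨lt_of_le_of_ne h.1 fun e => hy (e ▸ h.2), h.2⟩,
              fun h => ⟨h.1.le, h.2⟩⟩
        obtain ⟨m, hm⟩ := coef_int hgen 1
        refine ⟨m, fun _ _ => ?_⟩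
        rw [coef_eq] at hm
        simp only [hval, MonoidHom.one_apply, Units.val_one, mul_one] at hm
        rw [← Finset.sum_filter, Finset.sum_const, nsmul_eq_mul] at hm
        have hcard : ((Finset.univ.filter fun y => y ∈ S).card : ℂ) = (Nat.card S : ℂ) := by
          rw [Nat.card_eq_fintype_card, Fintype.card_subtype]
        rw [hcard, ← Subgroup.card_mul_index S, Nat.cast_mul, mul_inv, mul_comm (Nat.card S : ℂ)⁻¹,
          mul_assoc, inv_mul_cancel_left₀ (Nat.cast_ne_zero.2 Nat.card_pos.ne')] at hm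
        rw [← hm, mul_comm (S.index : ℂ)⁻¹, mul_assoc,
          inv_mul_cancel₀ (Nat.cast_ne_zero.2 Subgroup.index_ne_zero_of_finite), mul_one, ht]
        ring
      choose t ht using hdiv
      refine ⟨fun S => if S.index = n + 1 then t S else c S, fun S hS hSn => ?_⟩
      rcases Nat.lt_or_ge S.index (n + 1) with h | h
      · rw [hc S hS (by omega)]
        refine Finset.sum_congr rfl fun Q hQ => ?_
        have := Subgroup.index_antitone (Finset.mem_filter.1 hQ).2
        dsimp only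
        rw [if_neg (by omega)]
      · have hn : S.index = n + 1 := le_antisymm hSn h
        rw [ht S hS hn, show Finset.univ.filter (fun Q => S ≤ Q) =
          insert S (Finset.univ.filter fun Q => S < Q) by
            ext Q
            simp only [Finset.mem_filter, Finset.mem_univ, true_and, Finset.mem_insert]
            exact le_iff_eq_or_lt.trans (or_congr eq_comm Iff.rfl),
          Finset.sum_insert (by simp)]
        dsimp only
        rw [if_pos hn]
        congr 1
        refine Finset.sum_congr rfl fun Q hQ => ?_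
        have := Subgroup.index_strictAnti (Finset.mem_filter.1 hQ).2
        rw [if_neg (by omega)]
  obtain ⟨c, hc⟩ := key (Nat.card A)
  refine ⟨∑ Q ∈ Finset.univ.filter (fun Q : Subgroup A => Q ≠ ⊥),
      (c Q : ℂ) • (fun y => if y ∈ Q then (Q.index : ℂ) else 0),
    Char.IsGeneralizedCharacter.sum _ fun Q _ =>
      Char.IsGeneralizedCharacter.intCast_smul (gen_perm Q) _, fun y hy => ?_⟩
  rw [hc _ (fun h => hy (Subgroup.zpowers_eq_bot.1 h))
    (Nat.le_of_dvd Nat.card_pos (Subgroup.index_dvd_card _))]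
  simp only [Finset.sum_apply, Pi.smul_apply, smul_eq_mul, mul_ite, mul_zero]
  rw [← Finset.sum_filter, Finset.filter_filter]
  refine Finset.sum_congr (Finset.ext fun Q => ?_) fun _ _ => rfl
  simp only [Finset.mem_filter, Finset.mem_univ, true_and, Subgroup.zpowers_le]
  exact ⟨fun h => h.2, fun h => ⟨fun h0 => hy (Subgroup.mem_bot.1 (h0 ▸ h)), h⟩⟩

/-! ### Values prime to `p` -/

/-- A generalised character with integer values times another one is the product of the values. -/
theorem exists_mul_eq_prod [Fintype A] {g : A → ℂ} (hg : IsGeneralizedCharacter A g) (n : A → ℤ)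
    (hn : ∀ y, g y = (n y : ℂ)) :
    ∃ h : A → ℂ, IsGeneralizedCharacter A h ∧ ∀ y, g y * h y = ((∏ x, n x : ℤ) : ℂ) := by
  classical
  have key : ∀ s : Finset A, ∃ h : A → ℂ, IsGeneralizedCharacter A h ∧
      ∀ y, ((∏ x ∈ s, n x : ℤ) : ℂ) - g y * h y = ∏ x ∈ s, ((n x : ℂ) - g y) := by
    intro s
    induction s using Finset.induction_on with
    | empty => exact ⟨0, Char.IsGeneralizedCharacter.zero, fun y => by simp⟩
    | @insert z s hz ih =>
      obtain ⟨h, hh, he⟩ := ih
      refine ⟨(n z : ℂ) • h + (fun _ => ((∏ x ∈ s, n x : ℤ) : ℂ)) - g * h,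
        Char.IsGeneralizedCharacter.sub (Char.IsGeneralizedCharacter.add
          (Char.IsGeneralizedCharacter.intCast_smul hh _) (gen_const _))
          (Char.IsGeneralizedCharacter.mul hg hh), fun y => ?_⟩
      rw [Finset.prod_insert hz, Finset.prod_insert hz, ← he y]
      simp only [Pi.sub_apply, Pi.add_apply, Pi.smul_apply, Pi.mul_apply, smul_eq_mul, Int.cast_mul]
      ring
  obtain ⟨h, hh, he⟩ := key Finset.univ
  refine ⟨h, hh, fun y => ?_⟩
  have h0 : ∏ x, ((n x : ℂ) - g y) = 0 :=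
    Finset.prod_eq_zero (Finset.mem_univ y) (by rw [hn, sub_self])
  rw [← he y, sub_eq_zero] at h0
  exact h0.symm

theorem exists_int_of_rat {q : ℚ} (h : IsIntegral ℤ (q : ℂ)) : ∃ n : ℤ, q = n := by
  have h' : IsIntegral ℤ q :=
    (isIntegral_algebraMap_iff (algebraMap ℚ ℂ).injective).1 (by simpa using h)
  obtain ⟨n, hn⟩ := IsIntegrallyClosed.isIntegral_iff.1 h'
  exact ⟨n, by rw [← hn]; simp⟩

/-- A number which is integral after multiplication by two coprime integers is an integer. -/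
theorem int_of_coprime {x : ℂ} {a : ℤ} {b : ℕ} (ha0 : a ≠ 0) (ha : ∃ n : ℤ, (a : ℂ) * x = n)
    (hb : IsIntegral ℤ ((b : ℂ) * x)) (hco : IsCoprime a (b : ℤ)) : ∃ n : ℤ, x = n := by
  obtain ⟨n, hn⟩ := ha
  obtain ⟨u, v, huv⟩ := hco
  have ha' : (a : ℂ) ≠ 0 := Int.cast_ne_zero.2 ha0
  have hq : (((b : ℚ) * n / a : ℚ) : ℂ) = (b : ℂ) * x := by
    push_cast
    rw [← hn]
    field_simp
  obtain ⟨w, hw⟩ := exists_int_of_rat (q := (b : ℚ) * n / a) (by rw [hq]; exact hb)
  have h2 : (b : ℂ) * x = w := by rw [← hq, hw, Rat.cast_intCast]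
  refine ⟨u * n + v * w, ?_⟩
  have h1 : (u : ℂ) * a + (v : ℂ) * b = 1 := by exact_mod_cast huv
  push_cast
  rw [← hn, ← h2]
  linear_combination (-x) * h1

variable {p : ℕ} [Fact p.Prime]

/-- A generalised character with values of modulus prime to `p` is a linear character times a
generalised character with integer values. -/
theorem exists_twist (hA : IsPGroup p A) {F : A → ℂ} (hF : IsGeneralizedCharacter A F) (m : A → ℤ)
    (hm : ∀ y, ¬ (p : ℤ) ∣ m y) (ω : A → ℂ) (hω : ∀ y, IsIntegral ℤ (ω y))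
    (hω1 : ∀ y, ω y * conj (ω y) = 1) (hval : ∀ y, F y = (m y : ℂ) * ω y) :
    ∃ G : A → ℂ, IsGeneralizedCharacter A G ∧ ∃ s : A → ℤ, (∀ y, s y = 1 ∨ s y = -1) ∧
      ∀ y, G y = ((s y * m y : ℤ) : ℂ) := by
  classical
  have hp : p.Prime := Fact.out
  have := Fintype.ofFinite A
  obtain ⟨k, hk⟩ := IsPGroup.iff_card.1 hA
  have hm0 : ∀ y, (m y : ℂ) ≠ 0 := fun y =>
    Int.cast_ne_zero.2 fun h => hm y (h ▸ dvd_zero _)
  have hsq : ∀ y, F y * conj (F y) = ((m y ^ 2 : ℤ) : ℂ) := fun y => by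
    rw [hval, map_mul, map_intCast, mul_mul_mul_comm, hω1, mul_one, Int.cast_pow, sq]
  obtain ⟨h, hh, hhN⟩ := exists_mul_eq_prod
    (Char.IsGeneralizedCharacter.mul hF (Char.IsGeneralizedCharacter.conj hF))
    (fun y => m y ^ 2) hsq
  set N : ℤ := ∏ x, m x ^ 2
  have hN : IsCoprime N ((Nat.card A : ℕ) : ℤ) := by
    rw [hk, Nat.cast_pow]
    refine (IsCoprime.prod_left fun x _ => ?_).pow_right
    exact ((Nat.prime_iff_prime_int.1 hp).coprime_iff_not_dvd.2 (hm x)).symm.pow_left
  have hN0 : N ≠ 0 := Finset.prod_ne_zero_iff.2 fun x _ h => hm x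
    (by rw [pow_eq_zero_iff two_ne_zero] at h; rw [h]; exact dvd_zero _)
  -- the square of the unimodular part
  set u : A → ℂ := fun y => ω y * ω y with hu
  have huN : ∀ y, (N : ℂ) * u y = (F * F * h) y := fun y => by
    rw [← hhN y]
    simp only [hu, Pi.mul_apply, hval, map_mul, map_intCast]
    linear_combination ((m y : ℂ) ^ 2 * h y * ω y ^ 2) * (hω1 y - 1) * 0 +
      ((m y : ℂ) ^ 2 * h y * ω y ^ 2) * (hω1 y)
  have hucoef : ∀ l, ∃ n : ℤ, coef u l = n := by
    intro l
    refine int_of_coprime (a := N) (b := Nat.card A) hN0 ?_ ?_ hN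
    · obtain ⟨n, hn⟩ := coef_int (Char.IsGeneralizedCharacter.mul
        (Char.IsGeneralizedCharacter.mul hF hF) hh) l
      refine ⟨n, ?_⟩
      rw [← hn, coef_eq, coef_eq, ← mul_assoc, mul_comm (N : ℂ), mul_assoc, Finset.mul_sum]
      simp only [← huN, mul_assoc]
    · rw [coef_eq, ← mul_assoc, mul_inv_cancel₀ (Nat.cast_ne_zero.2 Nat.card_pos.ne'), one_mul]
      exact IsIntegral.sum _ fun y _ => ((hω y).mul (hω y)).mul
        (Char.IsGeneralizedCharacter.isIntegral (gen_fn l) _)
  have := Fintype.ofFinite (A →* ℂˣ)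
  have hugen : IsGeneralizedCharacter A u := by
    choose n hn using hucoef
    rw [show u = ∑ l : A →* ℂˣ, (n l : ℂ) • fn l from funext fun y => by
      rw [Finset.sum_apply, coef_expand u y]
      exact Finset.sum_congr rfl fun l _ => by rw [hn]; rfl]
    exact Char.IsGeneralizedCharacter.sum _ fun l _ =>
      Char.IsGeneralizedCharacter.intCast_smul (gen_fn l) _
  have hu1 : classInner u u = 1 := by
    simp only [classInner, hu, map_mul]
    rw [Finset.sum_congr rfl fun y _ => show ω y * ω y * (conj (ω y) * conj (ω y)) = 1 by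
      rw [mul_mul_mul_comm, hω1, one_mul], Finset.sum_const, Finset.card_univ, nsmul_eq_mul,
      mul_one, Nat.card_eq_fintype_card, inv_mul_cancel₀ (Nat.cast_ne_zero.2 Fintype.card_ne_zero)]
  obtain ⟨χ, hχ, hpm⟩ := Char.IsGeneralizedCharacter.exists_irr_of_norm_one hugen hu1
  have hχ1 : χ 1 = 1 := Char.apply_one_eq_one_of_comm mul_comm ⟨χ, hχ⟩
  have hreal : ∀ z : A, z * z = 1 → ω z * ω z = 1 := by
    intro z hz
    have h1 := Char.IsGeneralizedCharacter.apply_inv hF z
    rw [inv_eq_of_mul_eq_one_right hz] at h1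
    rw [hval, map_mul, map_intCast] at h1
    conv_lhs => arg 2; rw [mul_left_cancel₀ (hm0 z) h1]
    exact hω1 z
  have hueq : u = χ := by
    refine hpm.resolve_right fun h' => ?_
    have h2 : u 1 = 1 := hreal 1 (one_mul 1)
    rw [h', Pi.neg_apply, hχ1] at h2
    norm_num at h2
  obtain ⟨μ₀, hμ₀⟩ := Char.exists_hom_of_degree_one (Char.IsIrrCharacter.isCharacter hχ) hχ1
  let μ : A →* ℂˣ := μ₀.toHomUnits
  have hμ : ∀ y, (μ y : ℂ) = ω y * ω y := fun y => by
    show μ₀ y = u y
    rw [hueq, hμ₀]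
  -- a square root of the linear character
  let sq : A →* A := powMonoidHom 2
  have hker : ∀ z, z ∈ sq.rangeRestrict.ker → μ z = 1 := fun z hz => by
    refine Units.ext ?_
    rw [Units.val_one, hμ]
    refine hreal z ?_
    rw [MonoidHom.ker_rangeRestrict, MonoidHom.mem_ker] at hz
    rw [← pow_two]
    exact hz
  let l₀ : sq.range →* ℂˣ := sq.rangeRestrict.liftOfSurjective sq.rangeRestrict_surjective ⟨μ, hker⟩
  haveI : NeZero (Monoid.exponent A : ℂ) :=
    ⟨Nat.cast_ne_zero.mpr Monoid.exponent_ne_zero_of_finite⟩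
  obtain ⟨l, hl⟩ := MonoidHom.domRestrict_surjective (G := A) (M := ℂ) sq.range l₀
  have hl2 : ∀ y, (l y : ℂ) * (l y : ℂ) = ω y * ω y := fun y => by
    rw [← hμ, ← Units.val_mul, ← map_mul]
    congr 1
    have h1 := DFunLike.congr_fun hl (sq.rangeRestrict y)
    rw [MonoidHom.liftOfRightInverse_comp_apply] at h1
    rw [← pow_two]
    exact h1
  refine ⟨fun y => F y * fn l⁻¹ y, Char.IsGeneralizedCharacter.mul hF (gen_fn l⁻¹),
    fun y => if ω y = (l y : ℂ) then 1 else -1, fun y => by by_cases h : ω y = (l y : ℂ) <;> simp [h],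
    fun y => ?_⟩
  have hl0 : (l y : ℂ) ≠ 0 := (l y).ne_zero
  have hinv : fn l⁻¹ y = (l y : ℂ)⁻¹ := by simp [fn]
  show F y * fn l⁻¹ y = _
  rw [hinv, hval]
  rcases mul_self_eq_mul_self_iff.1 (hl2 y).symm with h | h
  · dsimp only
    rw [if_pos h, h, mul_assoc, mul_inv_cancel₀ hl0]
    simp
  · dsimp only
    rw [if_neg (fun h' : ω y = (l y : ℂ) => hl0 (self_eq_neg.1 (h'.symm.trans h))), h]
    push_cast
    field_simp

/-! ### The sign function -/

variable {M : Ideal AlgInt}

theorem gen_congr (hM : IsPModular p M) (hA : IsPGroup p A) {F : A → ℂ}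
    (hF : IsGeneralizedCharacter A F) (y : A) : MemLocalIdeal M (F y - F 1) := by
  have := Fintype.ofFinite (A →* ℂˣ)
  rw [coef_expand F y, coef_expand F 1, ← Finset.sum_sub_distrib]
  refine memI_sum hM _ fun l _ => ?_
  obtain ⟨n, hn⟩ := coef_int hF l
  obtain ⟨k, hk⟩ := hA y
  rw [hn, map_one, Units.val_one, ← mul_sub]
  refine memI_mul_left hM (memR_of_isIntegral hM (isIntegral_algebraMap (x := n))) ?_
  exact memI_sub_one_of_pow_eq_one hM (n := k)
    (by rw [← Units.val_pow_eq_pow_val, ← map_pow, hk, map_one, Units.val_one])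

theorem dvd_sub_of_gen (hM : IsPModular p M) (hA : IsPGroup p A) {F : A → ℂ}
    (hF : IsGeneralizedCharacter A F) {n : A → ℤ} (hn : ∀ y, F y = n y) (y : A) :
    (p : ℤ) ∣ n y - n 1 := by
  refine (RegPart.memI_intCast_iff hM).1 ?_
  rw [Int.cast_sub, ← hn, ← hn]
  exact gen_congr hM hA hF y

/-- A finset split into classes of size divisible by `k`, for an invariant weight. -/
theorem dvd_sum_of_classes {α : Type*} [DecidableEq α] (s : Finset α) (π : α → Finset α) (g : α → ℤ)
    (k : ℕ) (hs : ∀ x ∈ s, π x ⊆ s) (hself : ∀ x ∈ s, x ∈ π x) (hk : ∀ x ∈ s, k ∣ (π x).card)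
    (hπ : ∀ x ∈ s, ∀ y ∈ π x, π y = π x ∧ g y = g x) : (k : ℤ) ∣ ∑ x ∈ s, g x := by
  rw [← Finset.sum_fiberwise_of_maps_to (g := π) (t := s.image π)
    fun x hx => Finset.mem_image_of_mem π hx]
  refine Finset.dvd_sum fun c hc => ?_
  obtain ⟨x, hx, rfl⟩ := Finset.mem_image.1 hc
  have e : s.filter (fun y => π y = π x) = π x := Finset.ext fun y => by
    rw [Finset.mem_filter]
    exact ⟨fun h => h.2 ▸ hself y h.1, fun h => ⟨hs x hx h, (hπ x hx y h).1⟩⟩
  rw [e, Finset.sum_congr rfl fun y hy => (hπ x hx y hy).2, Finset.sum_const, nsmul_eq_mul]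
  exact dvd_mul_of_dvd_left (Int.natCast_dvd_natCast.2 (hk x hx)) _

/-- The generators of a cyclic subgroup. -/
theorem card_generators {D : Type*} [Group D] [Fintype D] [DecidableEq D] (l : D)
    [DecidablePred fun z => Subgroup.zpowers z = Subgroup.zpowers l] :
    (Finset.univ.filter fun z => Subgroup.zpowers z = Subgroup.zpowers l).card =
      (orderOf l).totient := by
  classical
  have := Fintype.ofFinite (Subgroup.zpowers l)
  rw [← IsCyclic.card_orderOf_eq_totient (α := Subgroup.zpowers l)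
    (d := orderOf l) (by rw [← Nat.card_eq_fintype_card, Nat.card_zpowers])]
  symm
  refine Finset.card_bij (fun z _ => (z : D)) (fun z hz => ?_) (fun a _ b _ h => Subtype.ext h)
    fun z hz => ?_
  · refine Finset.mem_filter.2 ⟨Finset.mem_univ _, Subgroup.eq_of_le_of_card_ge
      (Subgroup.zpowers_le.2 z.2) ?_⟩
    rw [Nat.card_zpowers, Nat.card_zpowers, Subgroup.orderOf_coe, (Finset.mem_filter.1 hz).2]
  · have hz' : Subgroup.zpowers z = Subgroup.zpowers l := (Finset.mem_filter.1 hz).2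
    refine ⟨⟨z, hz' ▸ Subgroup.mem_zpowers z⟩, Finset.mem_filter.2 ⟨Finset.mem_univ _, ?_⟩, rfl⟩
    rw [← Subgroup.orderOf_coe]
    show orderOf z = orderOf l
    rw [← Nat.card_zpowers, hz', Nat.card_zpowers]

theorem cycloValued_gen {F : A → ℂ} (hF : IsGeneralizedCharacter A F) :
    GaloisAvg.CycloValued F := by
  obtain ⟨a, b, ha, hb, rfl⟩ := hF
  intro g
  obtain ⟨P, hP⟩ := GaloisAvg.cycloValued_character ha g
  obtain ⟨Q, hQ⟩ := GaloisAvg.cycloValued_character hb g
  exact ⟨P - Q, fun m => by rw [Pi.sub_apply, map_sub, hP, hQ]⟩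

/-- For a `2`-group, a generalised character with integer values, odd at `1`, is congruent modulo
`4` to a linear character times its value at `1`. -/
theorem two_hom (hA : IsPGroup 2 A) {F : A → ℂ} (hF : IsGeneralizedCharacter A F) {n : A → ℤ}
    (hn : ∀ y, F y = n y) (hodd : ¬ (2 : ℤ) ∣ n 1) :
    ∃ φ : A →* ℂˣ, ∀ y, ((φ y : ℂ) = 1 ∧ (4 : ℤ) ∣ n y - n 1) ∨
      ((φ y : ℂ) = -1 ∧ (4 : ℤ) ∣ n y + n 1) := by
  classical
  have := Fintype.ofFinite A
  have := Fintype.ofFinite (A →* ℂˣ)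
  obtain ⟨a, ha⟩ := IsPGroup.iff_card.1 hA
  choose c hc using coef_int hF
  have hpowl : ∀ (l : A →* ℂˣ) (y : A), (l y) ^ 2 ^ a = 1 := fun l y => by
    rw [← map_pow, ← ha, pow_card_eq_one', map_one]
  have hlpow : ∀ l : A →* ℂˣ, l ^ 2 ^ a = 1 := fun l => MonoidHom.ext fun y => hpowl l y
  -- the coefficients are invariant under odd powers
  have hinv : ∀ (l : A →* ℂˣ) (k : ℕ), Odd k → c (l ^ k) = c l := by
    intro l k hk
    have hco : k.Coprime (Nat.card A) := by
      rw [ha]
      exact (Nat.coprime_two_right.2 hk).pow_right a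
    have hG : ∀ y, F (y ^ k) = F y := fun y => by
      rw [hn y, CharApp.apply_pow_of_rat (q := (n y : ℚ)) (cycloValued_gen hF)
        (by rw [hn y, Rat.cast_intCast]) hco, Rat.cast_intCast]
    suffices h : coef F (l ^ k) = coef F l by
      rw [hc, hc] at h
      exact_mod_cast h
    rw [coef_eq, coef_eq]
    congr 1
    refine Fintype.sum_bijective (fun y : A => y ^ k) (powCoprime hco.symm).bijective _ _ fun y => ?_
    rw [hG, ← inv_pow, map_pow]
    rfl
  -- the values through the characters with values ±1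
  let f : ℂ → ℤ := fun z => if z = 1 then 1 else if z = -1 then -1 else 0
  have hval : ∀ y, n y = ∑ l : A →* ℂˣ, c l * f (l y : ℂ) := by
    intro y
    rcases Nat.eq_zero_or_pos a with h0 | h0
    · have hy : y = 1 := by
        have := pow_card_eq_one' (x := y)
        rwa [ha, h0, pow_zero, pow_one] at this
      have h := coef_expand F y
      simp only [hc, hy, map_one, Units.val_one, mul_one] at h ⊢
      rw [hn, ← Int.cast_sum] at h
      simp only [f, if_pos, mul_one]
      exact_mod_cast h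
    set h2 := 2 ^ (a - 1) with hh2
    have hsum : ∀ l : A →* ℂˣ, ∑ j ∈ Finset.range h2, (l y : ℂ) ^ (2 * j + 1) =
        (h2 : ℂ) * (f (l y : ℂ) : ℂ) := by
      intro l
      set z := (l y : ℂ) with hz
      rw [Finset.sum_congr rfl fun j _ => show z ^ (2 * j + 1) = (z ^ 2) ^ j * z by
        rw [pow_succ, pow_mul], ← Finset.sum_mul]
      by_cases h1 : z ^ 2 = 1
      · rw [h1]
        simp only [one_pow, Finset.sum_const, Finset.card_range, nsmul_eq_mul, mul_one]
        rcases sq_eq_one_iff.1 h1 with e | e <;> norm_num [f, e]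
      · have h3 : (z ^ 2) ^ h2 = 1 := by
          rw [← pow_mul, hh2, ← pow_succ', Nat.sub_add_cancel h0, hz, ← Units.val_pow_eq_pow_val,
            hpowl, Units.val_one]
        have h4 : ∑ j ∈ Finset.range h2, (z ^ 2) ^ j = 0 := by
          have := geom_sum_mul (z ^ 2) h2
          rw [h3, sub_self] at this
          exact (mul_eq_zero.1 this).resolve_right (sub_ne_zero.2 h1)
        rw [h4, zero_mul, show f z = 0 by
          simp only [f]
          rw [if_neg (fun e => h1 (by rw [e, one_pow])), if_neg (fun e => h1 (by rw [e, neg_one_sq]))]]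
        simp
    have hodd' : ∀ j, F (y ^ (2 * j + 1)) = F y := fun j => by
      have hco : (2 * j + 1).Coprime (Nat.card A) := by
        rw [ha]
        exact (Nat.coprime_two_right.2 ⟨j, rfl⟩).pow_right a
      rw [hn y, CharApp.apply_pow_of_rat (q := (n y : ℚ)) (cycloValued_gen hF)
        (by rw [hn y, Rat.cast_intCast]) hco, Rat.cast_intCast]
    have key : (h2 : ℂ) * (n y : ℂ) = (h2 : ℂ) * ∑ l : A →* ℂˣ, (c l : ℂ) * (f (l y : ℂ) : ℂ) := by
      calc (h2 : ℂ) * (n y : ℂ) = ∑ j ∈ Finset.range h2, F (y ^ (2 * j + 1)) := by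
            simp only [hodd', Finset.sum_const, Finset.card_range, nsmul_eq_mul, hn]
        _ = _ := by
            simp only [coef_expand F (y ^ _), hc, map_pow, Units.val_pow_eq_pow_val]
            rw [Finset.sum_comm, Finset.mul_sum]
            refine Finset.sum_congr rfl fun l _ => ?_
            rw [← Finset.mul_sum, hsum]
            ring
    have h5 := mul_left_cancel₀ (Nat.cast_ne_zero.2 (pow_pos two_pos _).ne') key
    exact_mod_cast h5
  -- the three kinds of characters
  have hz2a : ∀ (l : A →* ℂˣ) (y : A), (l y : ℂ) ^ 2 ^ a = 1 := fun l y => by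
    rw [← Units.val_pow_eq_pow_val, hpowl, Units.val_one]
  let P2 : (A →* ℂˣ) → Prop := fun l => ∀ y, (l y : ℂ) ^ 2 = 1
  let P4 : (A →* ℂˣ) → Prop := fun l => ∀ y, (l y : ℂ) ^ 4 = 1
  let L2 := Finset.univ.filter P2
  let L4 := Finset.univ.filter (fun l => P4 l ∧ ¬ P2 l)
  let L8 := Finset.univ.filter (fun l => ¬ P4 l)
  let e := Fintype.equivFin (A →* ℂˣ)
  let half := L4.filter (fun l => e l < e l⁻¹)
  let φ : A →* ℂˣ := (∏ l ∈ L2, l ^ (c l).natAbs) * ∏ l ∈ half, (l ^ 2) ^ (c l).natAbs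
  refine ⟨φ, fun y => ?_⟩
  have h24 : ∀ l, P2 l → P4 l := fun l h z => by
    rw [show 4 = 2 * 2 from rfl, pow_mul, h z, one_pow]
  have hPinv : ∀ (k : ℕ) (l : A →* ℂˣ), (∀ z, (l⁻¹ z : ℂ) ^ k = 1) ↔ ∀ z, (l z : ℂ) ^ k = 1 :=
    fun k l => forall_congr' fun z => by simp [inv_pow]
  have hsplit : ∀ g : (A →* ℂˣ) → ℤ, ∑ l, g l =
      ∑ l ∈ L2, g l + (∑ l ∈ half, g l + ∑ l ∈ L4.filter (fun l => ¬ e l < e l⁻¹), g l) +
        ∑ l ∈ L8, g l := by
    intro g
    rw [Finset.sum_filter_add_sum_filter_not L4 _ g,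
      ← Finset.sum_filter_add_sum_filter_not Finset.univ P4 g,
      ← Finset.sum_filter_add_sum_filter_not (Finset.univ.filter P4) P2 g,
      Finset.filter_filter, Finset.filter_filter]
    congr 2
    exact Finset.sum_congr (Finset.filter_congr fun l _ => ⟨fun h => h.2, fun h => ⟨h24 l h, h⟩⟩)
      fun _ _ => rfl
  -- the parts
  have hinv1 : ∀ l : A →* ℂˣ, c l⁻¹ = c l := by
    intro l
    rcases Nat.eq_zero_or_pos a with h0 | h0
    · have h1 : l⁻¹ = l := MonoidHom.ext fun z => by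
        have h := hpowl l z
        rw [h0, pow_zero, pow_one] at h
        rw [MonoidHom.inv_apply, h, inv_one]
      rw [h1]
    · have e1 : l⁻¹ = l ^ (2 ^ a - 1) := MonoidHom.ext fun z => by
        rw [MonoidHom.inv_apply, MonoidHom.pow_apply]
        exact inv_eq_of_mul_eq_one_right (by
          rw [← pow_succ', Nat.sub_add_cancel Nat.one_le_two_pow, hpowl])
      rw [e1]
      exact hinv l _ (Nat.Even.sub_odd Nat.one_le_two_pow (Even.pow_of_ne_zero even_two h0.ne')
        odd_one)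
  let g : (A →* ℂˣ) → ℤ := fun l => c l * (1 - f (l y : ℂ))
  have hdiff : n 1 - n y = ∑ l, g l := by
    rw [hval 1, hval y, ← Finset.sum_sub_distrib]
    exact Finset.sum_congr rfl fun l _ => by simp [g, f, mul_sub]
  have hfinv : ∀ u : ℂˣ, f ((u⁻¹ : ℂˣ) : ℂ) = f (u : ℂ) := by
    intro u
    simp only [f, Units.val_inv_eq_inv_val, inv_eq_one, inv_eq_iff_eq_inv, inv_neg, inv_one]
  have hg_inv : ∀ l, g l⁻¹ = g l := fun l => by
    simp only [g, hinv1, MonoidHom.inv_apply, hfinv]
  have h4other : ∑ l ∈ L4.filter (fun l => ¬ e l < e l⁻¹), g l = ∑ l ∈ half, g l := by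
    refine Finset.sum_nbij' (fun l => l⁻¹) (fun l => l⁻¹) (fun l hl => ?_) (fun l hl => ?_)
      (fun l _ => inv_inv l) (fun l _ => inv_inv l) fun l _ => (hg_inv l).symm
    all_goals
      simp only [half, L4, Finset.coe_filter, Set.mem_ofPred_eq, Finset.mem_filter, Finset.mem_univ,
        true_and, inv_inv] at hl ⊢
      refine ⟨⟨(hPinv 4 l).2 hl.1.1, fun h => hl.1.2 ((hPinv 2 l).1 h)⟩, ?_⟩
    · refine lt_of_le_of_ne (le_of_not_gt hl.2) fun h => hl.1.2 fun z => ?_
      have h' := congrArg (fun w : A →* ℂˣ => (w z : ℂ)) (e.injective h)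
      simp only [MonoidHom.inv_apply, Units.val_inv_eq_inv_val] at h'
      rw [pow_two]
      nth_rewrite 1 [show (l z : ℂ) = ((l z : ℂ))⁻¹ by simpa using h'.symm]
      exact inv_mul_cancel₀ (l z).ne_zero
    · exact hl.2.le.not_gt
  have h8 : (4 : ℤ) ∣ ∑ l ∈ L8, g l := by
    refine dvd_sum_of_classes L8
      (fun l => Finset.univ.filter fun z => Subgroup.zpowers z = Subgroup.zpowers l) g 4
      (fun l hl z hz => ?_) (fun l _ => by simp) (fun l hl => ?_) fun l hl z hz => ?_
    · have hz' : Subgroup.zpowers z = Subgroup.zpowers l := (Finset.mem_filter.1 hz).2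
      refine Finset.mem_filter.2 ⟨Finset.mem_univ _, fun h => (Finset.mem_filter.1 hl).2 fun w => ?_⟩
      obtain ⟨i, hi⟩ := Subgroup.mem_zpowers_iff.1 (hz' ▸ Subgroup.mem_zpowers l)
      have e1 : (l w : ℂ) = (z w : ℂ) ^ i := by
        rw [← hi, ← Units.val_zpow_eq_zpow_val]
        rfl
      rw [e1, ← zpow_natCast ((z w : ℂ) ^ i), ← zpow_mul, mul_comm, zpow_mul, zpow_natCast, h w,
        one_zpow]
    · rw [card_generators]
      obtain ⟨b, -, hb⟩ := (Nat.dvd_prime_pow Nat.prime_two).1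
        (orderOf_dvd_of_pow_eq_one (hlpow l))
      have hb3 : 3 ≤ b := by
        by_contra hlt
        refine (Finset.mem_filter.1 hl).2 fun w => ?_
        have h4 : l ^ (4 : ℕ) = 1 := (orderOf_dvd_iff_pow_eq_one (n := 4)).1 (by
          rw [hb, show (4 : ℕ) = 2 ^ 2 from rfl]
          exact Nat.pow_dvd_pow 2 (by omega))
        rw [← Units.val_pow_eq_pow_val, ← MonoidHom.pow_apply, h4, MonoidHom.one_apply, Units.val_one]
      rw [hb, Nat.totient_prime_pow Nat.prime_two (by omega), show (4 : ℕ) = 2 ^ 2 from rfl]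
      exact dvd_mul_of_dvd_left (Nat.pow_dvd_pow 2 (by omega)) _
    · have hz' : Subgroup.zpowers z = Subgroup.zpowers l := (Finset.mem_filter.1 hz).2
      refine ⟨by simp only [hz'], ?_⟩
      obtain ⟨k, hk⟩ : ∃ k : ℕ, z = l ^ k := by
        obtain ⟨k, hk⟩ := mem_powers_iff_mem_zpowers.2 (hz' ▸ Subgroup.mem_zpowers z)
        exact ⟨k, hk.symm⟩
      subst hk
      have hodd' : Odd k := by
        rcases Nat.even_or_odd k with ⟨j, rfl⟩ | h
        · exfalso
          have h1 := (Nat.card_zpowers (l ^ (j + j))).symm.trans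
            ((congrArg (fun S : Subgroup (A →* ℂˣ) => Nat.card S) hz').trans (Nat.card_zpowers l))
          obtain ⟨b, -, hb⟩ := (Nat.dvd_prime_pow Nat.prime_two).1
            (orderOf_dvd_of_pow_eq_one (hlpow l))
          rcases Nat.eq_zero_or_pos b with rfl | hb0
          · refine (Finset.mem_filter.1 hl).2 fun w => ?_
            rw [pow_zero, orderOf_eq_one_iff] at hb
            rw [hb, MonoidHom.one_apply, Units.val_one, one_pow]
          · have h2 : (l ^ (j + j)) ^ (2 ^ (b - 1)) = 1 := by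
              refine (pow_mul l _ _).symm.trans (orderOf_dvd_iff_pow_eq_one.1 ⟨j, ?_⟩)
              rw [hb, ← two_mul]
              conv_rhs => rw [← Nat.sub_add_cancel hb0, pow_succ]
              ring
            have h3 := Nat.le_of_dvd (pow_pos two_pos _) (orderOf_dvd_of_pow_eq_one h2)
            rw [h1, hb] at h3
            exact absurd h3 (not_le.2 (Nat.pow_lt_pow_right one_lt_two (by omega)))
        · exact h
      simp only [g, hinv l k hodd', MonoidHom.pow_apply, Units.val_pow_eq_pow_val]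
      congr 2
      set w := (l y : ℂ)
      by_cases h1 : w ^ 2 = 1
      · obtain ⟨j, rfl⟩ := hodd'
        rw [pow_succ, pow_mul, h1, one_pow, one_mul]
      · have h1' : (w ^ k) ^ 2 ≠ 1 := fun h => h1 (by
          have hg : (w ^ 2) ^ (Nat.gcd k (2 ^ a)) = 1 := pow_gcd_eq_one.2
            ⟨by rw [← pow_mul, mul_comm, pow_mul, h],
              by rw [← pow_mul, mul_comm, pow_mul, hz2a, one_pow]⟩
          rwa [Nat.Coprime.gcd_eq_one ((Nat.coprime_two_right.2 hodd').pow_right a), pow_one] at hg)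
        simp only [f]
        rw [if_neg (fun e => h1' (by rw [e, one_pow])), if_neg (fun e => h1' (by rw [e, neg_one_sq])),
          if_neg (fun e => h1 (by rw [e, one_pow])), if_neg (fun e => h1 (by rw [e, neg_one_sq]))]
  obtain ⟨t, ht⟩ := h8
  rw [hsplit, h4other, ht] at hdiff
  -- the sign of `φ`
  let eps : (A →* ℂˣ) → ℕ := fun l => if (l y : ℂ) = 1 then 0 else 1
  let eps2 : (A →* ℂˣ) → ℕ := fun l => if (l y : ℂ) ^ 2 = 1 then 0 else 1
  have hsign : (φ y : ℂ) = (-1) ^ (∑ l ∈ L2, eps l * (c l).natAbs +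
      ∑ l ∈ half, eps2 l * (c l).natAbs) := by
    simp only [φ, MonoidHom.mul_apply, MonoidHom.finsetProd_apply, MonoidHom.pow_apply,
      Units.val_mul, Units.coe_prod, Units.val_pow_eq_pow_val, pow_add, ← Finset.prod_pow_eq_pow_sum,
      pow_mul]
    congr 1
    · refine Finset.prod_congr rfl fun l hl => congrArg (· ^ _) ?_
      simp only [eps]
      rcases sq_eq_one_iff.1 ((Finset.mem_filter.1 hl).2 y) with e' | e' <;> norm_num [e']
    · refine Finset.prod_congr rfl fun l hl => congrArg (· ^ _) ?_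
      have h1 : ((l y : ℂ) ^ 2) ^ 2 = 1 := by
        rw [← pow_mul]
        exact (Finset.mem_filter.1 (Finset.mem_filter.1 hl).1).2.1 y
      simp only [eps2]
      rcases sq_eq_one_iff.1 h1 with e' | e' <;> norm_num [e']
  set E := ∑ l ∈ L2, eps l * (c l).natAbs + ∑ l ∈ half, eps2 l * (c l).natAbs with hE
  have hpar : (4 : ℤ) ∣ n 1 - n y - 2 * (E : ℤ) := by
    have habs : ∀ z : ℤ, (2 : ℤ) ∣ z - (z.natAbs : ℤ) := fun z => by
      rcases Int.natAbs_eq z with h | h <;> omega
    have hne : (-1 : ℂ) ≠ 1 := by norm_num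
    have h2part : ∀ l ∈ L2, (4 : ℤ) ∣ g l - 2 * ((eps l * (c l).natAbs : ℕ) : ℤ) := by
      intro l hl
      obtain ⟨d, hd⟩ := habs (c l)
      rcases sq_eq_one_iff.1 ((Finset.mem_filter.1 hl).2 y) with e' | e'
      · simp only [g, f, eps, e', if_true]
        simp
      · refine ⟨d, ?_⟩
        simp only [g, f, eps, e', if_neg hne, if_true, one_mul]
        linarith
    have h4part : ∀ l ∈ half, (2 : ℤ) ∣ g l - ((eps2 l * (c l).natAbs : ℕ) : ℤ) := by
      intro l hl
      obtain ⟨d, hd⟩ := habs (c l)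
      by_cases h1 : (l y : ℂ) ^ 2 = 1
      · have he0 : eps2 l = 0 := if_pos h1
        rcases sq_eq_one_iff.1 h1 with e' | e'
        · simp only [g, f, e', he0, if_true]
          simp
        · refine ⟨c l, ?_⟩
          simp only [g, f, he0, e', if_neg hne, if_true, zero_mul, Nat.cast_zero]
          ring
      · have he1 : eps2 l = 1 := if_neg h1
        have hf0 : f (l y : ℂ) = 0 := by
          simp only [f]
          rw [if_neg (fun e' => h1 (by rw [e', one_pow])),
            if_neg (fun e' => h1 (by rw [e', neg_one_sq]))]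
        refine ⟨d, ?_⟩
        simp only [g, hf0, he1, one_mul]
        linarith
    have hA2 := Finset.dvd_sum h2part
    have hA4 := Finset.dvd_sum h4part
    rw [Finset.sum_sub_distrib, ← Finset.mul_sum] at hA2
    rw [Finset.sum_sub_distrib] at hA4
    obtain ⟨u2, hu2⟩ := hA2
    obtain ⟨u4, hu4⟩ := hA4
    refine ⟨u2 + u4 + t, ?_⟩
    rw [hE]
    push_cast at hu2 hu4 ⊢
    linarith
  rcases Nat.even_or_odd E with he | he
  · exact Or.inl ⟨by rw [hsign, he.neg_one_pow], by obtain ⟨k, hk⟩ := he; omega⟩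
  · exact Or.inr ⟨by rw [hsign, he.neg_one_pow], by obtain ⟨k, hk⟩ := he; omega⟩

/-- The moduli of a compatible family, up to sign, restrict to generalised characters. -/
theorem exists_signs (hM : IsPModular p M) (hA : IsPGroup p A) (m : Subgroup A → ℤ)
    (hm : ¬ (p : ℤ) ∣ m ⊤)
    (hF : ∀ R : Subgroup A, R ≠ ⊥ → ∃ F ω : A → ℂ, IsGeneralizedCharacter A F ∧
      (∀ y, IsIntegral ℤ (ω y)) ∧ (∀ y, ω y * conj (ω y) = 1) ∧
      ∀ y, F y = (m (R ⊔ Subgroup.zpowers y) : ℂ) * ω y) :
    ∃ a : Subgroup A → ℤ, (∀ S, a S = m S ∨ a S = -m S) ∧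
      (∀ S S', m S = m S' → a S = a S') ∧ (∀ S, S ≠ ⊥ → ¬ (p : ℤ) ∣ m S) ∧
      ∀ R : Subgroup A, R ≠ ⊥ →
        IsGeneralizedCharacter A fun y => (a (R ⊔ Subgroup.zpowers y) : ℂ) := by
  classical
  have hp : p.Prime := Fact.out
  have hup : ∀ {R : Subgroup A}, R ≠ ⊤ → ∃ y, R < R ⊔ Subgroup.zpowers y := fun {R} hR => by
    obtain ⟨y, -, hy⟩ := SetLike.exists_of_lt (lt_top_iff_ne_top.2 hR)
    exact ⟨y, lt_of_le_of_ne le_sup_left fun h => hy (h.symm ▸
      Subgroup.mem_sup_right (Subgroup.mem_zpowers y))⟩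
  have hbase : ∀ {R : Subgroup A}, R ⊔ Subgroup.zpowers 1 = R := fun {R} => by
    rw [Subgroup.zpowers_one_eq_bot, sup_bot_eq]
  have hmp : ∀ S, S ≠ ⊥ → ¬ (p : ℤ) ∣ m S := by
    intro S
    induction hn : S.index using Nat.strong_induction_on generalizing S with
    | _ n ih =>
      intro hS hd
      by_cases hT : S = ⊤
      · exact hm (hT ▸ hd)
      obtain ⟨y, hy⟩ := hup hT
      obtain ⟨F, ω, hFg, hωi, hω1, hval⟩ := hF S hS
      refine ih _ (hn ▸ Subgroup.index_strictAnti hy) _ rfl (ne_bot_of_gt hy) ?_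
      refine (RegPart.memI_intCast_iff hM).1 ?_
      have h1 : MemLocalIdeal M (F 1) := by
        rw [hval, hbase]
        exact memI_mul_right hM (memI_intCast hM hd) (memR_of_isIntegral hM (hωi 1))
      have h2 : MemLocalIdeal M (F y) := by
        have := memI_add hM (gen_congr hM hA hFg y) h1
        rwa [sub_add_cancel] at this
      have h3 := memI_mul_right hM h2 (memR_of_isIntegral hM ((hωi y).map ((starRingEnd ℂ).toIntAlgHom)))
      rw [hval, mul_assoc] at h3
      change MemLocalIdeal M ((m (S ⊔ Subgroup.zpowers y) : ℂ) * (ω y * conj (ω y))) at h3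
      rwa [hω1, mul_one] at h3
  -- the twisted families
  have htw : ∀ R : Subgroup A, R ≠ ⊥ → ∃ G : A → ℂ, IsGeneralizedCharacter A G ∧ ∃ s : A → ℤ,
      (∀ y, s y = 1 ∨ s y = -1) ∧
        ∀ y, G y = ((s y * m (R ⊔ Subgroup.zpowers y) : ℤ) : ℂ) := by
    intro R hR
    obtain ⟨F, ω, hFg, hωi, hω1, hval⟩ := hF R hR
    exact exists_twist hA hFg (fun y => m (R ⊔ Subgroup.zpowers y))
      (fun y => hmp _ (ne_bot_of_le_ne_bot hR le_sup_left)) ω hωi hω1 hval
  rcases hp.eq_two_or_odd' with rfl | hodd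
  · -- `p = 2`
    let a : Subgroup A → ℤ := fun S => if m S % 4 = 1 then m S else -m S
    refine ⟨a, fun S => by simp only [a]; split_ifs <;> simp, fun S S' h => by simp only [a, h],
      hmp, fun R hR => ?_⟩
    obtain ⟨G, hG, s, hs, hGv⟩ := htw R hR
    have ha4 : ∀ S, S ≠ ⊥ → (4 : ℤ) ∣ a S - 1 := fun S hS => by
      have := hmp S hS
      simp only [a]
      push_cast at this
      split_ifs <;> omega
    have hodd1 : ¬ (2 : ℤ) ∣ s 1 * m (R ⊔ Subgroup.zpowers 1) := by
      have := hmp R hR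
      rw [hbase]
      push_cast at this
      rcases hs 1 with h | h <;> rw [h] <;> omega
    obtain ⟨φ, hφ⟩ := two_hom hA hG hGv hodd1
    -- the sign relating `G` and `a`
    have hσ : ∀ y, ∃ σ : ℤ, (σ = 1 ∨ σ = -1) ∧
        s y * m (R ⊔ Subgroup.zpowers y) = σ * a (R ⊔ Subgroup.zpowers y) := by
      intro y
      rcases hs y with h | h <;> by_cases h4 : m (R ⊔ Subgroup.zpowers y) % 4 = 1
      · exact ⟨1, Or.inl rfl, by simp [a, h, h4]⟩
      · exact ⟨-1, Or.inr rfl, by simp [a, h, h4]⟩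
      · exact ⟨-1, Or.inr rfl, by simp [a, h, h4]⟩
      · exact ⟨1, Or.inl rfl, by simp [a, h, h4]⟩
    choose σ hσ1 hσ2 using hσ
    have hne : ∀ y, R ⊔ Subgroup.zpowers y ≠ ⊥ := fun y => ne_bot_of_le_ne_bot hR le_sup_left
    convert Char.IsGeneralizedCharacter.intCast_smul
      (Char.IsGeneralizedCharacter.mul hG (gen_fn φ)) (σ 1) using 1
    funext y
    simp only [Pi.smul_apply, Pi.mul_apply, smul_eq_mul, hGv, hσ2, fn]
    obtain ⟨u, hu⟩ := ha4 _ (hne y)
    obtain ⟨u1, hu1⟩ := ha4 _ (hne 1)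
    rcases hφ y with ⟨hφy, t, ht⟩ | ⟨hφy, t, ht⟩ <;> rw [hσ2, hσ2] at ht <;> rw [hφy] <;>
      rcases hσ1 y with h | h <;> rcases hσ1 1 with h' | h' <;> rw [h, h'] at ht ⊢
    all_goals first
      | (push_cast; ring1)
      | (exfalso; omega)
  · -- `p` odd
    let a : Subgroup A → ℤ := fun S => if (p : ℤ) ∣ m S - m ⊤ then m S else -m S
    refine ⟨a, fun S => by simp only [a]; split_ifs <;> simp, fun S S' h => by simp only [a, h],
      hmp, fun R hR => ?_⟩
    have hpm : ∀ S, S ≠ ⊥ → (p : ℤ) ∣ a S - m ⊤ := by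
      suffices h : ∀ S : Subgroup A, S ≠ ⊥ → (p : ℤ) ∣ m S - m ⊤ ∨ (p : ℤ) ∣ m S + m ⊤ by
        intro S hS
        simp only [a]
        split_ifs with hd
        · exact hd
        · obtain h' := (h S hS).resolve_left hd
          rw [show -m S - m ⊤ = -(m S + m ⊤) by ring]
          exact dvd_neg.2 h'
      intro S
      induction hn : S.index using Nat.strong_induction_on generalizing S with
      | _ n ih =>
        intro hS
        by_cases hT : S = ⊤
        · exact Or.inl (by rw [hT, sub_self]; exact dvd_zero _)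
        obtain ⟨y, hy⟩ := hup hT
        obtain ⟨G, hG, s, hs, hGv⟩ := htw S hS
        have hd := dvd_sub_of_gen hM hA hG hGv y
        rw [hbase] at hd
        rcases ih _ (hn ▸ Subgroup.index_strictAnti hy) _ rfl (ne_bot_of_gt hy) with h | h <;>
          rcases hs y with e | e <;> rcases hs 1 with e' | e' <;> rw [e, e'] at hd
        all_goals
          obtain ⟨k, hk⟩ := h
          obtain ⟨k', hk'⟩ := hd
          first
            | exact Or.inl ⟨k - k', by linarith⟩
            | exact Or.inl ⟨k + k', by linarith⟩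
            | exact Or.inl ⟨k' - k, by linarith⟩
            | exact Or.inl ⟨-k - k', by linarith⟩
            | exact Or.inr ⟨k - k', by linarith⟩
            | exact Or.inr ⟨k + k', by linarith⟩
            | exact Or.inr ⟨k' - k, by linarith⟩
            | exact Or.inr ⟨-k - k', by linarith⟩
    obtain ⟨G, hG, s, hs, hGv⟩ := htw R hR
    have hσ : ∀ y, ∃ σ : ℤ, (σ = 1 ∨ σ = -1) ∧
        s y * m (R ⊔ Subgroup.zpowers y) = σ * a (R ⊔ Subgroup.zpowers y) := by
      intro y
      rcases hs y with h | h <;>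
        by_cases h4 : (p : ℤ) ∣ m (R ⊔ Subgroup.zpowers y) - m ⊤
      · exact ⟨1, Or.inl rfl, by simp [a, h, h4]⟩
      · exact ⟨-1, Or.inr rfl, by simp [a, h, h4]⟩
      · exact ⟨-1, Or.inr rfl, by simp [a, h, h4]⟩
      · exact ⟨1, Or.inl rfl, by simp [a, h, h4]⟩
    choose σ hσ1 hσ2 using hσ
    have hne : ∀ y, R ⊔ Subgroup.zpowers y ≠ ⊥ := fun y => ne_bot_of_le_ne_bot hR le_sup_left
    have hconst : ∀ y, σ y = σ 1 := by
      intro y
      have hd := dvd_sub_of_gen hM hA hG hGv y
      rw [hσ2, hσ2] at hd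
      have h1 : (p : ℤ) ∣ (σ y - σ 1) * m ⊤ := by
        have h := dvd_sub hd (dvd_sub (dvd_mul_of_dvd_right (hpm _ (hne y)) (σ y))
          (dvd_mul_of_dvd_right (hpm _ (hne 1)) (σ 1)))
        rw [show (σ y - σ 1) * m ⊤ = σ y * a (R ⊔ Subgroup.zpowers y) -
          σ 1 * a (R ⊔ Subgroup.zpowers 1) - (σ y * (a (R ⊔ Subgroup.zpowers y) - m ⊤) -
            σ 1 * (a (R ⊔ Subgroup.zpowers 1) - m ⊤)) by ring]
        exact h
      have h2 := ((Nat.prime_iff_prime_int.1 hp).dvd_or_dvd h1).resolve_right hm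
      have h3 : 3 ≤ p := hp.two_le.lt_of_ne fun h => by rw [← h] at hodd; exact absurd hodd (by decide)
      rcases hσ1 y with e | e <;> rcases hσ1 1 with e' | e' <;> rw [e, e'] at h2 ⊢ <;>
        (have h4 := Int.natAbs_dvd_natAbs.2 h2; simp at h4) <;>
        exact absurd (Nat.le_of_dvd two_pos h4) (by omega)
    convert Char.IsGeneralizedCharacter.intCast_smul hG (σ 1) using 1
    funext y
    simp only [Pi.smul_apply, smul_eq_mul, hGv, hσ2, hconst y]
    rcases hσ1 1 with e | e <;> rw [e] <;> push_cast <;> ring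

/-- A compatible sign family gives an inverse up to an integer prime to `p`. -/
theorem exists_inverse (hM : IsPModular p M) (hA : IsPGroup p A) [Nontrivial A]
    (a : Subgroup A → ℤ) (hap : ∀ S, S ≠ ⊥ → ¬ (p : ℤ) ∣ a S)
    (ha : ∀ R : Subgroup A, R ≠ ⊥ →
      IsGeneralizedCharacter A fun y => (a (R ⊔ Subgroup.zpowers y) : ℂ)) :
    ∃ (N : ℤ) (u : A → ℂ), ¬ (p : ℤ) ∣ N ∧ IsGeneralizedCharacter A u ∧
      ∀ y, y ≠ 1 → u y * (a (Subgroup.zpowers y) : ℂ) = N := by
  classical
  have := Fintype.ofFinite A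
  obtain ⟨h, hh, hhv⟩ := glue a ha
  obtain ⟨d, hd⟩ : ∃ d : ℤ, h 1 = d := by
    have := Fintype.ofFinite (A →* ℂˣ)
    choose c hc using coef_int hh
    refine ⟨∑ l, c l, ?_⟩
    rw [coef_expand h 1]
    simp [hc]
  let n : A → ℤ := fun y => if y = 1 then d else a (Subgroup.zpowers y)
  have hn : ∀ y, h y = n y := fun y => by
    by_cases hy : y = 1
    · simp [n, hy, hd]
    · simp [n, hy, hhv y hy]
  have hp' : Prime (p : ℤ) := Nat.prime_iff_prime_int.1 Fact.out
  have hnp : ∀ y, y ≠ 1 → ¬ (p : ℤ) ∣ n y := fun y hy => by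
    simp only [n, if_neg hy]
    exact hap _ fun h0 => hy (Subgroup.zpowers_eq_bot.1 h0)
  obtain ⟨y0, hy0⟩ := exists_ne (1 : A)
  obtain ⟨u, hu, huv⟩ := exists_mul_eq_prod hh n hn
  refine ⟨∏ x, n x, u, fun hdvd => ?_, hu, fun y hy => ?_⟩
  · obtain ⟨x, -, hx⟩ := hp'.exists_mem_finset_dvd hdvd
    by_cases hx1 : x = 1
    · subst hx1
      refine hnp y0 hy0 ?_
      have := dvd_add (dvd_sub_of_gen hM hA hh hn y0) hx
      rwa [sub_add_cancel] at this
    · exact hnp x hx1 hx
  · rw [← hhv y hy, mul_comm]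
    exact huv y

/-- Integrality of the coefficients. -/
theorem int_coeff (hA : IsPGroup p A) [Fintype A] [DecidableEq A] {a : Subgroup A → ℤ} {N : ℤ} {u r D : A → ℂ}
    (hN : ¬ (p : ℤ) ∣ N) (hu : IsGeneralizedCharacter A u)
    (hua : ∀ y, y ≠ 1 → u y * (a (Subgroup.zpowers y) : ℂ) = N)
    (hr : IsGeneralizedCharacter A r)
    (hrD : ∀ y, y ≠ 1 → r y = (a (Subgroup.zpowers y) : ℂ) * D y)
    (hD : ∀ y, y ≠ 1 → IsIntegral ℤ (D y)) (l : A →* ℂˣ) :
    ∃ n : ℤ, (Nat.card A : ℂ)⁻¹ *
      ∑ y ∈ Finset.univ.erase (1 : A), ((l y⁻¹ : ℂ) - 1) * D y = n := by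
  obtain ⟨k, hk⟩ := IsPGroup.iff_card.1 hA
  have hN0 : N ≠ 0 := fun h => hN (h ▸ dvd_zero _)
  refine int_of_coprime (a := N) (b := Nat.card A) hN0 ?_ ?_ ?_
  · have hur := Char.IsGeneralizedCharacter.mul hu hr
    obtain ⟨n1, hn1⟩ := coef_int hur l
    obtain ⟨n2, hn2⟩ := coef_int hur 1
    refine ⟨n1 - n2, ?_⟩
    rw [Int.cast_sub, ← hn1, ← hn2, coef_eq, coef_eq, ← mul_sub, ← Finset.sum_sub_distrib,
      mul_left_comm, ← Finset.sum_erase (Finset.univ : Finset A) (a := (1 : A)) (by simp),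
      Finset.mul_sum]
    congr 1
    refine Finset.sum_congr rfl fun y hy => ?_
    have hy1 := Finset.ne_of_mem_erase hy
    simp only [Pi.mul_apply, hrD y hy1, MonoidHom.one_apply, Units.val_one, mul_one]
    rw [← mul_assoc (u y), hua y hy1]
    ring
  · rw [← mul_assoc, mul_inv_cancel₀ (Nat.cast_ne_zero.2 Nat.card_pos.ne'), one_mul]
    exact IsIntegral.sum _ fun y hy => ((Char.IsGeneralizedCharacter.isIntegral (gen_fn l) y⁻¹).sub
      isIntegral_one).mul (hD y (Finset.ne_of_mem_erase hy))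
  · rw [hk, Nat.cast_pow]
    exact (((Nat.prime_iff_prime_int.1 Fact.out).coprime_iff_not_dvd.2 hN).symm).pow_right

end Cfsg.Agent.FreeInertial
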